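import Cfsg.Agent.SylowTwoAb.Basic

/-!
# Wreath products with a permutation group
-/

set_option autoImplicit false
set_option linter.style.haveILetI false

namespace CfsgLib.SylowTwoAb

open Equiv
open scoped commutatorElement

variable {m : ℕ} (D : Type*) [Group D] (T : Subgroup (Perm (Fin m)))

/-- Permuting the factors of a power. -/
def blockAct : T →* MulAut (Fin m → D) where
  toFun π :=
    { toFun := fun a i => a (π.1⁻¹ i)
      invFun := fun a i => a (π.1 i)
      left_inv := fun a => by ext1 i; simp
      right_inv := fun a => by ext1 i; simp
      map_mul' := fun a b => rfl }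
  map_one' := by ext1 a; rfl
  map_mul' π ρ := by ext1 a; rfl

/-- The wreath product. -/
abbrev Wr := (Fin m → D) ⋊[blockAct D T] T

variable {D T}

/-- The involutions of an involution generated group lie in any subgroup containing their images. -/
theorem inr_mem_of_invGen (hT : InvGen T) {M : Subgroup (Wr D T)}
    (h : ∀ t : T, t * t = 1 → SemidirectProduct.inr t ∈ M) (t : T) :
    SemidirectProduct.inr t ∈ M := by
  have h1 : (⊤ : Subgroup T) ≤ Subgroup.closure {x : T | x * x = 1} := by
    intro x _
    rw [← Subgroup.mem_map_iff_mem T.subtype_injective, MonoidHom.map_closure]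
    refine Subgroup.closure_mono ?_ (hT x.2)
    rintro y ⟨hy, hyy⟩
    exact ⟨⟨y, hy⟩, Subtype.ext hyy, rfl⟩
  induction h1 (Subgroup.mem_top t) using Subgroup.closure_induction with
  | mem x hx => exact h x hx
  | one => rw [map_one]; exact one_mem _
  | mul x y _ _ hx hy => rw [map_mul]; exact mul_mem hx hy
  | inv x _ hx => rw [map_inv]; exact inv_mem hx

/-- A subgroup containing each factor contains the base. -/
theorem inl_mem_of_single {M : Subgroup (Wr D T)}
    (h : ∀ i d, SemidirectProduct.inl (Pi.mulSingle i d) ∈ M) (a : Fin m → D) :
    SemidirectProduct.inl a ∈ M := by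
  have h1 : ∀ s : Finset (Fin m), ∀ a : Fin m → D, (∀ i ∉ s, a i = 1) →
      SemidirectProduct.inl a ∈ M := by
    intro s
    induction s using Finset.induction_on with
    | empty =>
      intro a ha
      rw [show a = 1 from funext fun i => ha i (Finset.notMem_empty i), map_one]
      exact one_mem _
    | insert j s hj ih =>
      intro a ha
      rw [show a = Pi.mulSingle j (a j) * Function.update a j 1 from funext fun i => by
        rcases eq_or_ne i j with rfl | hij <;> simp [*], map_mul]
      refine mul_mem (h _ _) (ih _ fun i hi => ?_)
      rcases eq_or_ne i j with rfl | hij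
      · simp
      · rw [Function.update_of_ne hij]
        exact ha i (by simp [hij, hi])
  exact h1 Finset.univ a fun i hi => absurd (Finset.mem_univ i) hi

/-- A wreath product with an involution generated permutation group inherits the property. -/
theorem sqComm_wr (hT : InvGen T) (hD : SqComm D) : SqComm (Wr D T) := by
  refine sqComm_top fun w _ => ?_
  rw [← SemidirectProduct.inl_left_mul_inr_right w]
  refine mul_mem (inl_mem_of_single (fun i d => ?_) _) (inr_mem_of_invGen hT (fun t ht => ?_) _)
  · exact mem_good_map ((SemidirectProduct.inl).comp (MonoidHom.mulSingle (fun _ => D) i)) hD le_top d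
  · exact mem_good_of_sq trivial (by rw [← map_mul, ht, map_one])

end CfsgLib.SylowTwoAb
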