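import Cfsg.Agent.FormDiscr.Basic
import Cfsg.Agent.Forms.OrthIndex
import Cfsg.Agent.Spinor.StdForms

/-!
# Equivalent forms: isometry groups and discriminants

`isoCongr`: a linear equivalence between quadratic spaces identifies the isometry groups and the
subgroups `Ω`.  `exists_equiv_of_disc`: over a finite field of odd order two nondegenerate forms
of the same dimension with the same discriminant class are equivalent.
-/

set_option autoImplicit false
set_option linter.style.haveILetI false

namespace CfsgLib.SylowTwoAb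

open Matrix Module CfsgLib.Spinor CfsgLib.Forms CfsgLib.StdForms

variable {F : Type*} [Field F] {ι κ : Type} [Fintype ι] [DecidableEq ι] [Fintype κ] [DecidableEq κ]
  {Q : QuadraticForm F (ι → F)} {R : QuadraticForm F (κ → F)}
  (L : (κ → F) ≃ₗ[F] (ι → F)) (hL : ∀ v, Q (L v) = R v)

/-- Change of basis on matrices. -/
noncomputable def glConj : GL ι F →* GL κ F :=
  Units.map
    { toFun := fun M => LinearMap.toMatrix'
        ((L.symm.toLinearMap).comp ((Matrix.toLin' M).comp L.toLinearMap))
      map_one' := by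
        rw [Matrix.toLin'_one, LinearMap.id_comp]
        convert LinearMap.toMatrix'_id using 2
        exact LinearMap.ext fun v => L.symm_apply_apply v
      map_mul' := fun M N => by
        rw [Matrix.toLin'_mul, ← LinearMap.toMatrix'_comp]
        congr 1
        exact LinearMap.ext fun v => by simp }

theorem glConj_mulVec (g : GL ι F) (v : κ → F) :
    ((glConj L g : GL κ F) : Matrix κ κ F) *ᵥ v = L.symm ((g : Matrix ι ι F) *ᵥ L v) := by
  show LinearMap.toMatrix' _ *ᵥ v = _
  rw [← Matrix.toLin'_apply, Matrix.toLin'_toMatrix']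
  rfl

/-- The isometry groups of equivalent forms. -/
noncomputable def isoCongr :
    ↥(Cfsg.isometryGroup F ⇑Q) ≃* ↥(Cfsg.isometryGroup F ⇑R) where
  toFun g := ⟨glConj L g.1, fun v _ => by
    show R (((glConj L g.1 : GL κ F) : Matrix κ κ F) *ᵥ v) = R v
    rw [glConj_mulVec, ← hL, ← hL, L.apply_symm_apply]
    exact quad_mulVec Q g _⟩
  invFun h := ⟨glConj L.symm h.1, fun v _ => by
    show Q (((glConj L.symm h.1 : GL ι F) : Matrix ι ι F) *ᵥ v) = Q v
    rw [glConj_mulVec, LinearEquiv.symm_symm, hL, quad_mulVec R h, ← hL, L.apply_symm_apply]⟩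
  left_inv g := Subtype.ext (Units.ext (Matrix.ext_iff_mulVec.2 fun v => by
    rw [glConj_mulVec, glConj_mulVec, LinearEquiv.symm_symm, L.apply_symm_apply, L.apply_symm_apply]))
  right_inv h := Subtype.ext (Units.ext (Matrix.ext_iff_mulVec.2 fun v => by
    rw [glConj_mulVec, glConj_mulVec, LinearEquiv.symm_symm, L.symm_apply_apply,
      L.symm_apply_apply]))
  map_mul' g h := Subtype.ext (map_mul (glConj L) g.1 h.1)

theorem map_omega_isoCongr :
    (Cfsg.Omega F ⇑Q).map (isoCongr L hL).toMonoidHom = Cfsg.Omega F ⇑R := by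
  unfold Cfsg.Omega
  rw [commutator_def, commutator_def, Subgroup.map_commutator, ← MonoidHom.range_eq_map,
    MonoidHom.range_eq_top.2 (isoCongr L hL).surjective]

include hL in
theorem nonempty_omega_equiv :
    Nonempty (↥(Cfsg.Omega F ⇑Q) ≃* ↥(Cfsg.Omega F ⇑R)) :=
  ⟨((isoCongr L hL).subgroupMap (Cfsg.Omega F ⇑Q)).trans
    (MulEquiv.subgroupCongr (map_omega_isoCongr L hL))⟩

include hL in
theorem card_isometry_eq :
    Nat.card ↥(Cfsg.isometryGroup F ⇑Q) = Nat.card ↥(Cfsg.isometryGroup F ⇑R) :=
  Nat.card_congr (isoCongr L hL).toEquiv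

omit L hL

/-- Forms with the same discriminant class are equivalent. -/
theorem exists_equiv_of_disc [Fintype F] (h2 : (2 : F) ≠ 0)
    (hQ : (QuadraticMap.polarBilin Q).Nondegenerate) (hR : (QuadraticMap.polarBilin R).Nondegenerate)
    (hcard : Fintype.card ι = Fintype.card κ)
    (hd : IsSquare ((FormDiscr.gram Q).det * (FormDiscr.gram R).det)) :
    ∃ L : (κ → F) ≃ₗ[F] (ι → F), ∀ v, Q (L v) = R v := by
  have aux : ∀ {μ : Type} [Fintype μ] [DecidableEq μ] (S : QuadraticForm F (μ → F))
      (e : μ ≃ Fin (Fintype.card ι)), (QuadraticMap.polarBilin S).Nondegenerate →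
      ∃ S' : QuadraticForm F (Fin (Fintype.card ι) → F),
        (QuadraticMap.polarBilin S').Nondegenerate ∧
        (FormDiscr.gram S').det = (FormDiscr.gram S).det ∧
        ∀ v, S (LinearEquiv.funCongrLeft F F e v) = S' v := by
    intro μ _ _ S e hS
    set E := LinearEquiv.funCongrLeft F F e
    have hgram : FormDiscr.gram (S.comp E.toLinearMap) = (FormDiscr.gram S).submatrix e.symm e.symm := by
      have hs : ∀ i, E (Pi.single i 1) = Pi.single (e.symm i) 1 := fun i => by
        funext x
        rw [show E (Pi.single i 1) x = (Pi.single i 1 : Fin _ → F) (e x) from rfl]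
        simp [Pi.single_apply, Equiv.eq_symm_apply]
      ext i j
      simp [FormDiscr.gram, QuadraticMap.polar, hs]
    refine ⟨S.comp E.toLinearMap, ?_, by rw [hgram, Matrix.det_submatrix_equiv_self], fun v => rfl⟩
    refine nondegenerate_of_sep _ fun x hx => E.injective ?_
    rw [map_zero]
    refine hS.1 _ fun y => ?_
    obtain ⟨y, rfl⟩ := E.surjective y
    have := hx y
    simpa [QuadraticMap.polar] using this
  obtain ⟨Q', hQ', hQd, hQe⟩ := aux Q (Fintype.equivFin ι) hQ
  obtain ⟨R', hR', hRd, hRe⟩ := aux R ((Fintype.equivFin κ).trans (finCongr hcard.symm)) hR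
  obtain ⟨g, hg⟩ := (FormDiscr.equivalent_iff h2 R' Q' hR' hQ').2 (by rw [hQd, hRd, mul_comm]; exact hd)
  refine ⟨((LinearEquiv.funCongrLeft F F ((Fintype.equivFin κ).trans (finCongr hcard.symm))).symm.trans
    g).trans (LinearEquiv.funCongrLeft F F (Fintype.equivFin ι)), fun v => ?_⟩
  rw [LinearEquiv.trans_apply, LinearEquiv.trans_apply, hQe, hg, ← hRe, LinearEquiv.apply_symm_apply]

/-- Diagonal forms with nonzero coefficients are nondegenerate. -/
theorem diag_nondegenerate (h2 : (2 : F) ≠ 0) {w : ι → F} (hw : ∀ i, w i ≠ 0) :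
    (QuadraticMap.polarBilin (QuadraticMap.weightedSumSquares F w)).Nondegenerate := by
  refine nondegenerate_of_sep _ fun x hx => funext fun i => ?_
  have h : QuadraticMap.polar (⇑(QuadraticMap.weightedSumSquares F w)) x (Pi.single i 1) =
      2 * w i * x i := by
    simp only [QuadraticMap.polar, QuadraticMap.weightedSumSquares_apply, smul_eq_mul, Pi.add_apply,
      ← Finset.sum_sub_distrib]
    rw [Finset.sum_eq_single i (fun j _ hj => by simp [Pi.single_apply, hj]) (by simp)]
    simp
    ring
  have h0 := hx (Pi.single i 1)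
  rw [h] at h0
  simpa [h2, hw i] using h0

end CfsgLib.SylowTwoAb
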