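import Cfsg.Agent.SylowTwoAb.OrthModel
import Cfsg.Agent.Forms4.OrthogonalOrders
import Mathlib.NumberTheory.Multiplicity

/-!
# Two-parts of orthogonal group orders and discriminants of the standard forms
-/

set_option autoImplicit false
set_option linter.style.haveILetI false

namespace CfsgLib.SylowTwoAb

open Matrix CfsgLib.Spinor CfsgLib.Forms4 CfsgLib.StdForms

section nat

variable {q : ℕ}

theorem val_of_mod_four {n : ℕ} (h : n % 4 = 2) : padicValNat 2 n = 1 := by
  rw [show n = 2 * (n / 2) by omega, padicValNat.mul two_ne_zero (by omega), padicValNat.self one_lt_two,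
    padicValNat.eq_zero_of_not_dvd (n := n / 2) (by omega)]

theorem val_pow_two_mul (hq : Odd q) (h3 : 3 ≤ q) {n : ℕ} (hn : n ≠ 0) :
    padicValNat 2 (q ^ (2 * n) - 1) = padicValNat 2 (q ^ 2 - 1) + padicValNat 2 n := by
  have hd : ¬ 2 ∣ q := fun h => (Nat.not_even_iff_odd.2 hq) (even_iff_two_dvd.2 h)
  have e1 := padicValNat.pow_two_sub_one (x := q) (n := 2 * n) (by omega) hd (by omega) (even_two_mul n)
  have e2 := padicValNat.pow_two_sub_one (x := q) (n := 2) (by omega) hd two_ne_zero even_two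
  rw [padicValNat.mul two_ne_zero hn, padicValNat.self one_lt_two] at e1
  rw [padicValNat.self one_lt_two] at e2
  omega

theorem val_prod (hq : Odd q) (h3 : 3 ≤ q) (m : ℕ) :
    padicValNat 2 (∏ i ∈ Finset.range m, (q ^ (2 * (i + 1)) - 1)) =
      m * padicValNat 2 (q ^ 2 - 1) + padicValNat 2 m.factorial := by
  induction m with
  | zero => simp
  | succ m ih =>
    have hne : ∀ i, q ^ (2 * (i + 1)) - 1 ≠ 0 := fun i => by
      have : 3 ^ 1 ≤ q ^ (2 * (i + 1)) :=
        (Nat.pow_le_pow_left h3 1).trans (Nat.pow_le_pow_right (by omega) (by omega))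
      omega
    rw [Finset.prod_range_succ, padicValNat.mul (Finset.prod_ne_zero_iff.2 fun i _ => hne i) (hne m), ih,
      val_pow_two_mul hq h3 m.succ_ne_zero, Nat.factorial_succ,
      padicValNat.mul m.succ_ne_zero m.factorial_ne_zero]
    ring

theorem val_plus_add_minus (hq : Odd q) (h3 : 3 ≤ q) {m : ℕ} (hm : m ≠ 0) :
    padicValNat 2 (q ^ m - 1) + padicValNat 2 (q ^ m + 1) =
      padicValNat 2 (q ^ 2 - 1) + padicValNat 2 m := by
  have h1 : 3 ≤ q ^ m := h3.trans (Nat.le_self_pow hm q)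
  rw [← padicValNat.mul (by omega) (by omega), ← val_pow_two_mul hq h3 hm, mul_comm (q ^ m - 1),
    ← Nat.sq_sub_sq, ← pow_mul, mul_comm m, one_pow]

theorem pow_mod_four (hq : Odd q) (m : ℕ) :
    (q ^ m % 4 = 1 ∧ (Even m ∨ q % 4 = 1)) ∨ (q ^ m % 4 = 3 ∧ Odd m ∧ q % 4 = 3) := by
  have h := Nat.odd_iff.1 hq
  rcases (by omega : q % 4 = 1 ∨ q % 4 = 3) with e | e
  · left; exact ⟨by rw [Nat.pow_mod, e, one_pow]; rfl, Or.inr e⟩
  rcases Nat.even_or_odd m with ⟨k, rfl⟩ | ho
  · left
    refine ⟨?_, Or.inl ⟨k, rfl⟩⟩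
    rw [Nat.pow_mod, e, ← two_mul, pow_mul, Nat.pow_mod]
    norm_num
  · right
    obtain ⟨k, rfl⟩ := ho
    refine ⟨?_, ⟨k, rfl⟩, e⟩
    rw [Nat.pow_mod, e, pow_succ, pow_mul, Nat.mul_mod, Nat.pow_mod]
    norm_num

end nat

section field

variable {F : Type*} [Field F] [Fintype F]

theorem isSquare_neg_one_pow (hF : Odd (Fintype.card F)) {m : ℕ} :
    IsSquare ((-1 : F) ^ m) ↔ Fintype.card F ^ m % 4 = 1 := by
  rcases pow_mod_four hF m with ⟨h, h'⟩ | ⟨h, ho, h'⟩
  · refine iff_of_true ?_ h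
    rcases h' with he | h'
    · rw [he.neg_one_pow]; exact IsSquare.one
    · exact (FiniteField.isSquare_neg_one_iff.2 (by omega)).pow m
  · refine iff_of_false ?_ (by omega)
    rw [ho.neg_one_pow, FiniteField.isSquare_neg_one_iff]
    omega

theorem isSquare_mul_of_not (x y : F) (hx : ¬ IsSquare x) (hy : ¬ IsSquare y) : IsSquare (x * y) := by
  classical
  have hx0 : x ≠ 0 := fun h => hx (h ▸ ⟨0, by simp⟩)
  have hy0 : y ≠ 0 := fun h => hy (h ▸ ⟨0, by simp⟩)
  rw [← quadraticChar_one_iff_isSquare (mul_ne_zero hx0 hy0), map_mul,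
    quadraticChar_neg_one_iff_not_isSquare.2 hx, quadraticChar_neg_one_iff_not_isSquare.2 hy]
  rfl

theorem two_ne_zero_of_odd (hF : Odd (Fintype.card F)) : (2 : F) ≠ 0 := Ring.two_ne_zero fun hc => by
  have h := FiniteField.even_card_of_char_two hc
  exact (Nat.not_even_iff_odd.2 hF) (Nat.even_iff.2 h)

theorem three_le_card (hF : Odd (Fintype.card F)) : 3 ≤ Fintype.card F := by
  have := Fintype.one_lt_card (α := F)
  obtain ⟨k, hk⟩ := hF
  omega

/-- The discriminant class of a form from a diagonalisation. -/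
theorem isSquare_disc {κ : Type} [Fintype κ] [DecidableEq κ] (R : QuadraticForm F (κ → F))
    (h2 : (2 : F) ≠ 0) (g : (κ → F) →ₗ[F] (κ → F)) (w : κ → F) (hw : ∀ i, w i ≠ 0)
    (h : ∀ v, R (g v) = QuadraticMap.weightedSumSquares F w v) {X : F}
    (hX : IsSquare ((∏ i, w i) * X)) :
    IsSquare ((FormDiscr.gram R).det * (2 ^ Fintype.card κ * X)) := by
  have e := FormDiscr.gram_det_comp (QuadraticMap.weightedSumSquares F w) R g 1
    (fun v => by rw [h, one_mul])
  rw [FormDiscr.gram_det_diag, one_pow, one_mul] at e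
  have hg : LinearMap.det g ≠ 0 := by
    intro h0
    rw [h0] at e
    exact mul_ne_zero (pow_ne_zero _ h2) (Finset.prod_ne_zero_iff.2 fun i _ => hw i)
      (by simpa using e.symm)
  obtain ⟨s, hs⟩ := hX
  refine ⟨2 ^ Fintype.card κ * s / LinearMap.det g, ?_⟩
  field_simp
  linear_combination X * e + (2 ^ Fintype.card κ) * hs

variable {m : ℕ}

/-- The diagonalisation of the hyperbolic part. -/
noncomputable def hypDiag (F : Type*) [Field F] (m : ℕ) : (Fin m ⊕ Fin m → F) →ₗ[F] (Fin m ⊕ Fin m → F) where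
  toFun v := Sum.elim (fun i => v (.inl i) + v (.inr i)) fun i => v (.inl i) - v (.inr i)
  map_add' u v := by funext x; rcases x with i | i <;> simp <;> ring
  map_smul' t v := by funext x; rcases x with i | i <;> simp <;> ring

theorem disc_plus (h2 : (2 : F) ≠ 0) {X : F} (hX : IsSquare ((-1) ^ m * X)) :
    IsSquare ((FormDiscr.gram (plusQ m F)).det * (2 ^ (2 * m) * X)) := by
  have h := isSquare_disc (plusQ m F) h2 (hypDiag F m) (Sum.elim (fun _ => 1) fun _ => -1)
    (by rintro (i | i) <;> simp) (fun v => by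
      simp [plusQ_apply, Cfsg.quadFormPlus, hypDiag, ← Finset.sum_add_distrib]
      rw [← sub_eq_add_neg, ← Finset.sum_sub_distrib]
      exact Finset.sum_congr rfl fun i _ => by ring) (X := X) (by simpa using hX)
  simpa [two_mul] using h

theorem disc_odd (h2 : (2 : F) ≠ 0) {X : F} (hX : IsSquare ((-1) ^ m * X)) :
    IsSquare ((FormDiscr.gram (oddQ m F)).det * (2 ^ (2 * m + 1) * X)) := by
  let g : (Unit ⊕ (Fin m ⊕ Fin m) → F) →ₗ[F] (Unit ⊕ (Fin m ⊕ Fin m) → F) :=
    { toFun := fun v => Sum.elim (fun _ => v (.inl ())) (hypDiag F m fun i => v (.inr i))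
      map_add' := fun u v => by funext x; rcases x with _ | i | i <;> simp [hypDiag] <;> ring
      map_smul' := fun t v => by funext x; rcases x with _ | i | i <;> simp [hypDiag] <;> ring }
  have h := isSquare_disc (oddQ m F) h2 g (Sum.elim (fun _ => 1) (Sum.elim (fun _ => 1) fun _ => -1))
    (by rintro (_ | i | i) <;> simp) (fun v => by
      simp [oddQ_apply, Cfsg.quadFormOdd, g, hypDiag, ← Finset.sum_add_distrib, pow_two]
      rw [← sub_eq_add_neg, ← Finset.sum_sub_distrib]
      exact Finset.sum_congr rfl fun i _ => by ring) (X := X) (by simpa using hX)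
  rwa [show Fintype.card (Unit ⊕ (Fin m ⊕ Fin m)) = 2 * m + 1 by simp; omega] at h

theorem disc_minus (h2 : (2 : F) ≠ 0) {k : ℕ} {a b : F} (hD : a ^ 2 - 4 * b ≠ 0) {X : F}
    (hX : IsSquare ((-1) ^ k * (b - a ^ 2 / 4) * X)) :
    IsSquare ((FormDiscr.gram (minusQ k F a b)).det * (2 ^ (2 * k + 2) * X)) := by
  let g : ((Fin k ⊕ Fin k) ⊕ Fin 2 → F) →ₗ[F] ((Fin k ⊕ Fin k) ⊕ Fin 2 → F) :=
    { toFun := fun v => Sum.elim (hypDiag F k fun i => v (.inl i))
        ![v (.inr 0) - a / 2 * v (.inr 1), v (.inr 1)]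
      map_add' := fun u v => by
        funext x; rcases x with (i | i) | i <;> (try fin_cases i) <;> simp [hypDiag] <;> ring
      map_smul' := fun t v => by
        funext x; rcases x with (i | i) | i <;> (try fin_cases i) <;> simp [hypDiag] <;> ring }
  have h4 : (4 : F) ≠ 0 := by
    rw [show (4 : F) = 2 * 2 by norm_num]; exact mul_ne_zero h2 h2
  have hd : b - a ^ 2 / 4 ≠ 0 := fun h => hD (by
    field_simp at h
    linear_combination -h)
  have h := isSquare_disc (minusQ k F a b) h2 g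
    (Sum.elim (Sum.elim (fun _ => 1) fun _ => -1) ![1, b - a ^ 2 / 4])
    (by rintro ((i | i) | i) <;> (try fin_cases i) <;> simp [hd]) (fun v => by
      simp [minusQ_apply, Cfsg.quadFormMinus, g, hypDiag, ← Finset.sum_add_distrib,
        Fin.sum_univ_two]
      congr 1
      · rw [← sub_eq_add_neg, ← Finset.sum_sub_distrib]
        exact Finset.sum_congr rfl fun i _ => by ring
      · field_simp
        ring) (X := X) (by simpa [Fin.prod_univ_two] using hX)
  rwa [show Fintype.card ((Fin k ⊕ Fin k) ⊕ Fin 2) = 2 * k + 2 by simp; omega] at h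

theorem not_isSquare_of_anisotropic (h2 : (2 : F) ≠ 0) {a b : F}
    (hab : ∀ z₁ z₂ : F, z₁ ^ 2 + a * z₁ * z₂ + b * z₂ ^ 2 = 0 → z₁ = 0 ∧ z₂ = 0) :
    ¬ IsSquare (-(b - a ^ 2 / 4)) := by
  rintro ⟨s, hs⟩
  have h4 : (4 : F) ≠ 0 := by
    rw [show (4 : F) = 2 * 2 by norm_num]; exact mul_ne_zero h2 h2
  refine one_ne_zero (hab (s - a / 2) 1 ?_).2
  field_simp at hs ⊢
  linear_combination -hs

/-- The two-part of the order of the isometry group of `x² + y²`. -/
theorem val_card_plane (hF : Odd (Fintype.card F)) :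
    (Nat.card ↥(Cfsg.isometryGroup F ⇑(planeQ F))).factorization 2 =
      padicValNat 2 (Fintype.card F ^ 2 - 1) := by
  haveI : Fact (Nat.Prime 2) := ⟨Nat.prime_two⟩
  have h2 := two_ne_zero_of_odd hF
  have h3 := three_le_card hF
  have hv := val_plus_add_minus hF h3 one_ne_zero
  rw [pow_one, padicValNat.one, add_zero] at hv
  rw [Nat.factorization_def _ Nat.prime_two]
  have nd : (QuadraticMap.polarBilin (planeQ F)).Nondegenerate :=
    diag_nondegenerate h2 fun _ => one_ne_zero
  have hdet : (FormDiscr.gram (planeQ F)).det = 2 ^ 2 := by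
    rw [FormDiscr.gram_det_diag]; simp
  rcases (by have := Nat.odd_iff.1 hF; omega : Fintype.card F % 4 = 1 ∨ Fintype.card F % 4 = 3) with e | e
  · obtain ⟨L, hL⟩ := exists_equiv_of_disc (Q := planeQ F) (R := plusQ 1 F) h2 nd (plusQ_nondegenerate 1)
      rfl (by
        have := disc_plus (m := 1) h2 (X := 1) (by
          rw [pow_one, mul_one]; exact FiniteField.isSquare_neg_one_iff.2 (by omega))
        rwa [hdet, mul_comm, ← mul_one (2 ^ 2 : F)])
    rw [card_isometry_eq L hL, coe_plusQ, card_isometryGroup_quadFormPlus rfl 1 le_rfl]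
    simp only [Nat.sub_self, mul_zero, pow_zero, mul_one, pow_one, Finset.range_zero, Finset.prod_empty]
    rw [padicValNat.mul two_ne_zero (by omega), padicValNat.self one_lt_two]
    have := val_of_mod_four (n := Fintype.card F + 1) (by omega)
    omega
  · have hns : ¬ IsSquare (-1 : F) := by rw [FiniteField.isSquare_neg_one_iff]; omega
    have hab : ∀ z₁ z₂ : F, z₁ ^ 2 + 0 * z₁ * z₂ + 1 * z₂ ^ 2 = 0 → z₁ = 0 ∧ z₂ = 0 := fun x y h => by
      have hy : y = 0 := by
        by_contra hy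
        exact hns ⟨x / y, by field_simp; linear_combination -h⟩
      exact ⟨pow_eq_zero_iff two_ne_zero |>.1 (by rw [hy] at h; linear_combination h), hy⟩
    obtain ⟨L, hL⟩ := exists_equiv_of_disc (Q := planeQ F) (R := minusQ 0 F 0 1) h2 nd
      (minusQ_nondegenerate 0 (disc_ne_zero_of_anisotropic h2 hab))
      (by simp) (by
        have := disc_minus (k := 0) h2 (disc_ne_zero_of_anisotropic h2 hab) (X := 1) (by simp)
        rwa [hdet, mul_comm, ← mul_one (2 ^ 2 : F)])
    rw [card_isometry_eq L hL, coe_minusQ,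
      show (0 : ℕ) = 1 - 1 from rfl, card_isometryGroup_quadFormMinus rfl 1 le_rfl 0 1 hab]
    simp only [Nat.sub_self, mul_zero, pow_zero, mul_one, pow_one, Finset.range_zero, Finset.prod_empty]
    rw [padicValNat.mul two_ne_zero (by omega), padicValNat.self one_lt_two]
    have := val_of_mod_four (n := Fintype.card F - 1) (by omega)
    omega

theorem val_card_odd (hF : Odd (Fintype.card F)) :
    (Nat.card ↥(Cfsg.isometryGroup F ⇑(oddQ m F))).factorization 2 =
      1 + m * padicValNat 2 (Fintype.card F ^ 2 - 1) + padicValNat 2 m.factorial := by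
  haveI : Fact (Nat.Prime 2) := ⟨Nat.prime_two⟩
  have h3 := three_le_card hF
  have hp : padicValNat 2 (Fintype.card F ^ m ^ 2) = 0 :=
    padicValNat.eq_zero_of_not_dvd fun h => (Nat.not_even_iff_odd.2 hF.pow) (even_iff_two_dvd.2 h)
  have hne : ∏ i ∈ Finset.range m, (Fintype.card F ^ (2 * (i + 1)) - 1) ≠ 0 :=
    Finset.prod_ne_zero_iff.2 fun i _ => by
      have : 3 ≤ Fintype.card F ^ (2 * (i + 1)) := h3.trans (Nat.le_self_pow (by omega) _)
      omega
  rw [Nat.factorization_def _ Nat.prime_two, coe_oddQ, card_isometryGroup_quadFormOdd rfl hF,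
    padicValNat.mul (mul_ne_zero two_ne_zero (pow_ne_zero _ (by omega))) hne,
    padicValNat.mul two_ne_zero (pow_ne_zero _ (by omega)), hp, padicValNat.self one_lt_two,
    val_prod hF h3]
  ring

theorem val_card_even_aux (hF : Odd (Fintype.card F)) {k x : ℕ} (e : ℕ) (hx : x ≠ 0) :
    padicValNat 2 (2 * Fintype.card F ^ e * x *
        ∏ i ∈ Finset.range k, (Fintype.card F ^ (2 * (i + 1)) - 1)) =
      1 + padicValNat 2 x + k * padicValNat 2 (Fintype.card F ^ 2 - 1) + padicValNat 2 k.factorial := by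
  haveI : Fact (Nat.Prime 2) := ⟨Nat.prime_two⟩
  have h3 := three_le_card hF
  have hp : padicValNat 2 (Fintype.card F ^ e) = 0 :=
    padicValNat.eq_zero_of_not_dvd fun h => (Nat.not_even_iff_odd.2 hF.pow) (even_iff_two_dvd.2 h)
  have hne : ∏ i ∈ Finset.range k, (Fintype.card F ^ (2 * (i + 1)) - 1) ≠ 0 :=
    Finset.prod_ne_zero_iff.2 fun i _ => by
      have : 3 ≤ Fintype.card F ^ (2 * (i + 1)) := h3.trans (Nat.le_self_pow (by omega) _)
      omega
  have hq0 : Fintype.card F ^ e ≠ 0 := pow_ne_zero _ (by omega)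
  rw [padicValNat.mul (mul_ne_zero (mul_ne_zero two_ne_zero hq0) hx) hne,
    padicValNat.mul (mul_ne_zero two_ne_zero hq0) hx, padicValNat.mul two_ne_zero hq0, hp,
    padicValNat.self one_lt_two, val_prod hF h3]
  ring

end field

end CfsgLib.SylowTwoAb
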