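import Cfsg.Agent.SylowTwoAb.BlockRep
import Cfsg.Agent.SylowTwoAb.OrthVal
import Cfsg.Agent.Linear.Basic
import Cfsg.Agent.S0261

/-!
# Sylow `2`-subgroups of special linear groups in odd characteristic
-/

set_option autoImplicit false
set_option linter.style.haveILetI false

namespace CfsgLib.SylowTwoAb

open Matrix Equiv
open scoped commutatorElement MatrixGroups

section generic

variable {D : Type*} [Group D] {C : Type*} [CommGroup C] {m r : ℕ} {T : Subgroup (Perm (Fin m))}

/-- The kernel of a determinant on the model. -/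
theorem ker_le_good_cyclic (χ : Wr D T × (Fin r → ℤˣ) →* C) (ψ : D →* C) (a : D) (hT : InvGen T)
    (hm : 1 ≤ m) (hker : SqComm ψ.ker) (hgen : ∀ d, ∃ k : ℕ, ψ d = ψ a ^ k)
    (hord : ∀ k : ℕ, ψ a ^ k = 1 → a ^ k = 1)
    (hsingle : ∀ i d, χ (SemidirectProduct.inl (Pi.mulSingle i d), 1) = ψ d)
    (hperm : ∀ t, χ (SemidirectProduct.inr t, 1) = 1)
    (hsign : ∀ j, χ (1, Pi.mulSingle j (-1)) = ψ a)
    (hcase : a * a = 1 ∨ (r = 0 ∧ ∀ i k : Fin m, ∃ t : T, t.1 i = k)) :
    χ.ker ≤ good χ.ker := by
  haveI : (good χ.ker).Normal :=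
    { conj_mem := by
        rintro x ⟨hx, hxx⟩ g
        refine ⟨χ.normal_ker.conj_mem x hx g, ?_⟩
        rw [show g * x * g⁻¹ * (g * x * g⁻¹) = g * (x * x) * g⁻¹ by group]
        exact (Subgroup.commutator_normal _ _).conj_mem _ hxx g }
  let single : Fin m → D →* Wr D T × (Fin r → ℤˣ) := fun i => (MonoidHom.inl _ _).comp
    ((SemidirectProduct.inl).comp (MonoidHom.mulSingle (fun _ : Fin m => D) i))
  have hχs : ∀ i d, χ (single i d) = ψ d := hsingle
  let π := QuotientGroup.mk' (good χ.ker)
  have hπ : ∀ x y, x * y⁻¹ ∈ good χ.ker → π x = π y := fun x y h => by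
    have h1 : π (x * y⁻¹) = 1 := (QuotientGroup.eq_one_iff _).2 h
    rwa [map_mul, map_inv, mul_inv_eq_one] at h1
  have hinr : ∀ t, π (SemidirectProduct.inr t, 1) = 1 := by
    intro t
    refine (QuotientGroup.eq_one_iff _).2 ?_
    refine inr_mem_of_invGen (M := (good χ.ker).comap (MonoidHom.inl _ _)) hT (fun t ht => ?_) t
    exact mem_good_of_sq (hperm t) (by simp [← map_mul, ht])
  have hq : ∀ i d, ψ d = 1 → π (single i d) = 1 := fun i d h => by
    refine (QuotientGroup.eq_one_iff _).2 ?_
    refine mem_good_map ((single i).comp ψ.ker.subtype) hker ?_ ⟨d, h⟩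
    rintro _ ⟨q, rfl⟩
    exact (hχs i q.1).trans q.2
  have hcomm : ∀ i k d e, i ≠ k → Commute (single i d) (single k e) := fun i k d e h =>
    ((Pi.mulSingle_commute (f := fun _ : Fin m => D) h d e).map
      (SemidirectProduct.inl : (Fin m → D) →* Wr D T)).map (MonoidHom.inl _ _)
  let i0 : Fin m := ⟨0, hm⟩
  set z := π (single i0 a) with hz
  have hplane : ∀ i, π (single i a) = z := by
    intro i
    rcases hcase with ha | ⟨-, htr⟩
    · rcases eq_or_ne i i0 with rfl | h
      · rfl
      refine hπ _ _ (mem_good_of_sq ?_ ?_)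
      · rw [MonoidHom.mem_ker, map_mul, map_inv, hχs, hχs, mul_inv_cancel]
      · rw [← map_inv, (hcomm i i0 a a⁻¹ h).symm.mul_mul_mul_comm, ← map_mul, ← map_mul, ha,
          ← _root_.mul_inv_rev, ha, inv_one, map_one, map_one, mul_one]
    · have step : ∀ t : T, ∀ j, π (single j a) = π (single (t.1 j) a) := by
        intro t
        have h1 : (⊤ : Subgroup T) ≤ Subgroup.closure {x : T | x * x = 1} := by
          intro x _
          rw [← Subgroup.mem_map_iff_mem T.subtype_injective, MonoidHom.map_closure]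
          refine Subgroup.closure_mono ?_ (hT x.2)
          rintro y ⟨hy, hyy⟩
          exact ⟨⟨y, hy⟩, Subtype.ext hyy, rfl⟩
        induction h1 (Subgroup.mem_top t) using Subgroup.closure_induction with
        | one => intro j; rfl
        | mul x y _ _ hx hy => intro j; exact (hy j).trans (hx (y.1 j))
        | inv x _ hx =>
          intro j
          simpa using (hx (x.1⁻¹ j)).symm
        | mem x hxx =>
          intro j
          rcases eq_or_ne (x.1 j) j with e | e
          · rw [e]
          set u := single j a * (single (x.1 j) a)⁻¹ with hu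
          have hx2 : x.1 (x.1 j) = j := congrArg (fun p : T => p.1 j) hxx
          have hxi : x⁻¹ = x := inv_eq_of_mul_eq_one_right hxx
          have hconj : ∀ k, ((SemidirectProduct.inr x, 1) : Wr D T × (Fin r → ℤˣ)) * single k a *
              (SemidirectProduct.inr x, 1)⁻¹ = single (x.1 k) a := by
            intro k
            refine Prod.ext ?_ (by simp [single])
            show SemidirectProduct.inr x * SemidirectProduct.inl (Pi.mulSingle k a : Fin m → D) *
              (SemidirectProduct.inr x)⁻¹ = SemidirectProduct.inl (Pi.mulSingle (x.1 k) a : Fin m → D)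
            rw [← map_inv, ← SemidirectProduct.inl_aut]
            congr 1
            funext l
            show (Pi.mulSingle k a : Fin m → D) (x.1⁻¹ l) = _
            rcases eq_or_ne l (x.1 k) with rfl | hl
            · simp
            · rw [Pi.mulSingle_eq_of_ne hl, Pi.mulSingle_eq_of_ne]
              exact fun h => hl (by simp [← h])
          have hmem : u ∈ χ.ker := by
            rw [hu, MonoidHom.mem_ker, map_mul, map_inv, hχs, hχs, mul_inv_cancel]
          have htk : ((SemidirectProduct.inr x, 1) : Wr D T × (Fin r → ℤˣ)) ∈ χ.ker := hperm x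
          refine hπ _ _ ⟨hmem, ?_⟩
          have hswap : ((SemidirectProduct.inr x, 1) : Wr D T × (Fin r → ℤˣ)) * u *
              (SemidirectProduct.inr x, 1)⁻¹ = u⁻¹ := by
            rw [hu, _root_.mul_inv_rev, inv_inv,
              show ((SemidirectProduct.inr x, 1) : Wr D T × (Fin r → ℤˣ)) *
                (single j a * (single (x.1 j) a)⁻¹) * (SemidirectProduct.inr x, 1)⁻¹ =
              ((SemidirectProduct.inr x, 1) * single j a * (SemidirectProduct.inr x, 1)⁻¹) *
                ((SemidirectProduct.inr x, 1) * single (x.1 j) a * (SemidirectProduct.inr x, 1)⁻¹)⁻¹ by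
                group, hconj, hconj, hx2]
          have h2 : ⁅((SemidirectProduct.inr x, 1) : Wr D T × (Fin r → ℤˣ)), u⁆ = (u * u)⁻¹ := by
            rw [commutatorElement_def, hswap]
            group
          have h3 := inv_mem (Subgroup.commutator_mem_commutator htk hmem)
          rwa [h2, inv_inv] at h3
      obtain ⟨t, ht⟩ := htr i i0
      rw [step t i, ht]
  have hsingleU : ∀ i d, π (single i d) ∈ Subgroup.zpowers z := by
    intro i d
    obtain ⟨k, hk⟩ := hgen d
    rw [show d = (d * (a ^ k)⁻¹) * a ^ k by group, map_mul, map_mul,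
      hq i _ (by rw [map_mul, map_inv, map_pow, hk, mul_inv_cancel]), one_mul, map_pow, map_pow,
      hplane]
    exact Subgroup.npow_mem_zpowers _ _
  have hsignU : ∀ j, π (1, Pi.mulSingle j (-1)) ∈ Subgroup.zpowers z := by
    intro j
    have ha : a * a = 1 := by
      rcases hcase with h | ⟨h, -⟩
      · exact h
      · exact absurd j.2 (by omega)
    have h2 : ((1, Pi.mulSingle j (-1)) : Wr D T × (Fin r → ℤˣ)) * (1, Pi.mulSingle j (-1)) = 1 := by
      simp [← Pi.mulSingle_mul]
    have hc : Commute ((1, Pi.mulSingle j (-1)) : Wr D T × (Fin r → ℤˣ)) (single i0 a)⁻¹ :=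
      ((Commute.one_left _).prod (Commute.one_right _) : Commute _ (single i0 a)).inv_right
    rw [hπ (1, Pi.mulSingle j (-1)) (single i0 a) (mem_good_of_sq ?_ ?_)]
    · exact Subgroup.mem_zpowers z
    · rw [MonoidHom.mem_ker, map_mul, map_inv, hsign, hχs, mul_inv_cancel]
    · rw [hc.symm.mul_mul_mul_comm, h2, one_mul, ← _root_.mul_inv_rev, ← map_mul, ha, map_one, inv_one]
  have hall : ∀ w, π w ∈ Subgroup.zpowers z := by
    rintro ⟨w, ε⟩
    rw [show ((w, ε) : Wr D T × (Fin r → ℤˣ)) =
        (SemidirectProduct.inl w.left, 1) * (SemidirectProduct.inr w.right, 1) * (1, ε) by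
      simp [SemidirectProduct.inl_left_mul_inr_right], map_mul, map_mul, hinr, mul_one]
    refine mul_mem ?_ ?_
    · refine inl_mem_of_single (M := ((Subgroup.zpowers z).comap π).comap (MonoidHom.inl (Wr D T) (Fin r → ℤˣ)))
        (fun i d => ?_) w.left
      exact hsingleU i d
    · refine Subgroup.pi_mem_of_mulSingle_mem
        (H := ((Subgroup.zpowers z).comap π).comap (MonoidHom.inr _ _)) ε fun j => ?_
      rcases Int.units_eq_one_or (ε j) with h | h <;> rw [h]
      · rw [Pi.mulSingle_one]; exact one_mem _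
      · exact hsignU j
  intro w hw
  have hle : good χ.ker ≤ χ.ker := fun _ h => h.1
  let χ' := QuotientGroup.lift (good χ.ker) χ hle
  obtain ⟨k, hk⟩ := Subgroup.mem_zpowers_iff.1 (hall w)
  have h0 : χ' (π w) = 1 := hw
  have hc : χ' z = ψ a := hχs i0 a
  rw [← hk, map_zpow, hc] at h0
  refine (QuotientGroup.eq_one_iff _).1 (show π w = 1 from ?_)
  have hord' : a ^ k = 1 := by
    rcases k with n | n
    · simpa using hord n (by simpa using h0)
    · simpa using hord (n + 1) (by simpa using h0)
  rw [← hk, hz, ← map_zpow, ← map_zpow, hord', map_one, map_one]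

end generic

section model

variable {F : Type*} [Field F] {m r : ℕ} {D : Subgroup (GL (Fin 2) F)} {T : Subgroup (Perm (Fin m))}

theorem det_blockHom_single (i : Fin m) (d : D) :
    GeneralLinearGroup.det (blockHom (r := r) (T := T)
      (SemidirectProduct.inl (Pi.mulSingle i d), 1)) = GeneralLinearGroup.det (d : GL (Fin 2) F) := by
  ext
  rw [GeneralLinearGroup.val_det_apply, GeneralLinearGroup.val_det_apply]
  have e : ((blockHom (r := r) (T := T) (SemidirectProduct.inl (Pi.mulSingle i d), 1) :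
      GL (Idx m r) F) : Matrix (Idx m r) (Idx m r) F) =
      fromBlocks (blockDiagonal fun k => (((Pi.mulSingle i d : Fin m → D) k : GL (Fin 2) F) :
        Matrix (Fin 2) (Fin 2) F)) 0 0 1 := by
    refine Matrix.ext_iff_mulVec.2 fun v => ?_
    rw [blockHom_mulVec, fromBlocks_mulVec]
    funext x
    rcases x with ⟨a, k⟩ | j
    · rw [blockLin_inl]
      simp [Matrix.mulVec, dotProduct, blockDiagonal_apply, Fintype.sum_prod_type]
    · simp [blockLin_inr]
  rw [e, det_fromBlocks_zero₂₁, det_blockDiagonal, det_one, mul_one, Fintype.prod_eq_single i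
    (fun k hk => by simp [Pi.mulSingle_eq_of_ne hk]), Pi.mulSingle_eq_same]

theorem det_blockHom_inr (t : T) :
    GeneralLinearGroup.det (blockHom (D := D) (r := r) (SemidirectProduct.inr t, 1)) = 1 := by
  ext
  rw [GeneralLinearGroup.val_det_apply, Units.val_one]
  let σ : Perm (Idx m r) := Equiv.sumCongr (prodCongrRight fun _ : Fin 2 => t.1⁻¹) (Equiv.refl _)
  have e : ((blockHom (D := D) (r := r) (SemidirectProduct.inr t, 1) : GL (Idx m r) F) :
      Matrix (Idx m r) (Idx m r) F) = σ.permMatrix F := by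
    refine Matrix.ext_iff_mulVec.2 fun v => ?_
    rw [blockHom_mulVec, permMatrix_mulVec]
    funext x
    rcases x with ⟨a, k⟩ | j
    · simp [blockLin_inl, σ]
    · simp [blockLin_inr, σ]
  rw [e, det_permutation]
  simp [σ, Equiv.Perm.sign_sumCongr, Equiv.Perm.sign_prodCongrRight, Fin.prod_univ_two,
    Int.units_mul_self]

theorem det_blockHom_sign (j : Fin r) :
    GeneralLinearGroup.det (blockHom (D := D) (T := T) (1, Pi.mulSingle j (-1))) = -1 := by
  ext
  rw [GeneralLinearGroup.val_det_apply, Units.val_neg, Units.val_one]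
  have e : ((blockHom (D := D) (T := T) (1, Pi.mulSingle j (-1)) : GL (Idx m r) F) :
      Matrix (Idx m r) (Idx m r) F) =
      diagonal (Sum.elim 1 fun k => (((Pi.mulSingle j (-1) : Fin r → ℤˣ) k : ℤ) : F)) := by
    refine Matrix.ext_iff_mulVec.2 fun v => funext fun x => ?_
    rw [blockHom_mulVec, mulVec_diagonal]
    rcases x with ⟨a, k⟩ | k
    · simp [blockLin_inl]
    · simp [blockLin_inr]
  rw [e, det_diagonal, Fintype.prod_sum_type, Fintype.prod_eq_single j
    (fun k hk => by simp [Pi.mulSingle_eq_of_ne hk])]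
  simp

/-- `diag(u, 1)`. -/
def diagHom (F : Type*) [Field F] : Fˣ →* GL (Fin 2) F where
  toFun u := ⟨!![(u : F), 0; 0, 1], !![((u⁻¹ : Fˣ) : F), 0; 0, 1],
    by simp [Matrix.mul_fin_two, Matrix.one_fin_two], by simp [Matrix.mul_fin_two, Matrix.one_fin_two]⟩
  map_one' := Units.ext (by simp [Matrix.one_fin_two])
  map_mul' u v := Units.ext (by simp [Matrix.mul_fin_two])

theorem det_diagHom (u : Fˣ) : GeneralLinearGroup.det (diagHom F u) = u := by
  ext
  simp [diagHom, Matrix.det_fin_two]

theorem val_GL_two_mul [Fintype F] (hF : Odd (Fintype.card F)) (m : ℕ) :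
    padicValNat 2 (∏ i ∈ Finset.range (2 * m), (Fintype.card F ^ (i + 1) - 1)) =
      m * (padicValNat 2 (Fintype.card F ^ 2 - 1) + padicValNat 2 (Fintype.card F - 1)) +
        padicValNat 2 m.factorial := by
  have h3 := three_le_card hF
  haveI : Fact (Nat.Prime 2) := ⟨Nat.prime_two⟩
  induction m with
  | zero => simp
  | succ m ih =>
    have hne : ∀ i, Fintype.card F ^ (i + 1) - 1 ≠ 0 := fun i => by
      have : 3 ≤ Fintype.card F ^ (i + 1) := h3.trans (Nat.le_self_pow (by omega) _)
      omega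
    have hodd : padicValNat 2 (Fintype.card F ^ (2 * m + 1) - 1) = padicValNat 2 (Fintype.card F - 1) := by
      have h := val_plus_add_minus hF h3 (m := 2 * m + 1) (by omega)
      have h' := val_plus_add_minus hF h3 (m := 1) one_ne_zero
      rw [pow_one, padicValNat.one] at h'
      rw [padicValNat.eq_zero_of_not_dvd (n := 2 * m + 1) (by omega)] at h
      rcases pow_mod_four hF (2 * m + 1) with ⟨h4, he | he⟩ | ⟨h4, -, he⟩
      · exact absurd he (Nat.not_even_two_mul_add_one m)
      · rw [val_of_mod_four (n := Fintype.card F ^ (2 * m + 1) + 1) (by omega)] at h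
        rw [val_of_mod_four (n := Fintype.card F + 1) (by omega)] at h'
        omega
      · rw [val_of_mod_four (n := Fintype.card F ^ (2 * m + 1) - 1) (by omega),
          val_of_mod_four (n := Fintype.card F - 1) (by omega)]
    rw [show 2 * (m + 1) = 2 * m + 1 + 1 by ring, Finset.prod_range_succ, Finset.prod_range_succ,
      padicValNat.mul (mul_ne_zero (Finset.prod_ne_zero_iff.2 fun i _ => hne i) (hne _)) (hne _),
      padicValNat.mul (Finset.prod_ne_zero_iff.2 fun i _ => hne i) (hne _), ih, hodd,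
      show 2 * m + 1 + 1 = 2 * (m + 1) by ring, val_pow_two_mul hF h3 m.succ_ne_zero,
      Nat.factorial_succ, padicValNat.mul m.succ_ne_zero m.factorial_ne_zero]
    ring

theorem sqComm_SL2 [Fintype F] (hF : Odd (Fintype.card F))
    (Q : Sylow 2 (Matrix.SpecialLinearGroup (Fin 2) F)) :
    SqComm ↥(Q : Subgroup (Matrix.SpecialLinearGroup (Fin 2) F)) := by
  obtain ⟨k, hk, ⟨e⟩⟩ := Cfsg.Agent.S0261.result hF Q
  refine sqComm_congr e.symm ?_
  have hc : ∀ i : ZMod (2 * 2 ^ k), QuaternionGroup.a (i + i) ∈ commutator (QuaternionGroup (2 ^ k)) :=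
    fun i => by
      have i1 : (QuaternionGroup.xa 0 : QuaternionGroup (2 ^ k))⁻¹ =
          QuaternionGroup.xa ((2 ^ k : ℕ) : ZMod (2 * 2 ^ k)) := by
        apply inv_eq_of_mul_eq_one_right
        rw [QuaternionGroup.xa_mul_xa, QuaternionGroup.one_def, sub_zero, ← Nat.cast_add, ← two_mul,
          ZMod.natCast_self]
      have i2 : (QuaternionGroup.a (-i) : QuaternionGroup (2 ^ k))⁻¹ = QuaternionGroup.a i := by
        apply inv_eq_of_mul_eq_one_right
        rw [QuaternionGroup.a_mul_a, QuaternionGroup.one_def, neg_add_cancel]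
      have h0 : ((2 ^ k : ℕ) : ZMod (2 * 2 ^ k)) + ((2 ^ k : ℕ) : ZMod (2 * 2 ^ k)) = 0 := by
        rw [← Nat.cast_add, ← two_mul, ZMod.natCast_self]
      have e1 : ⁅(QuaternionGroup.xa 0 : QuaternionGroup (2 ^ k)),
          (QuaternionGroup.a (-i) : QuaternionGroup (2 ^ k))⁆ = QuaternionGroup.a (i + i) := by
        rw [commutatorElement_def, i1, i2, QuaternionGroup.xa_mul_a, QuaternionGroup.xa_mul_xa,
          QuaternionGroup.a_mul_a]
        congr 1
        linear_combination h0
      rw [← e1, commutator_def]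
      exact Subgroup.commutator_mem_commutator (Subgroup.mem_top _) (Subgroup.mem_top _)
  rintro (i | i)
  · rw [pow_two, QuaternionGroup.a_mul_a]; exact hc i
  · rw [pow_two, QuaternionGroup.xa_mul_xa]
    obtain ⟨j, hj⟩ : ∃ j, k = j + 1 := ⟨k - 1, by omega⟩
    have e2 : ((2 ^ k : ℕ) : ZMod (2 * 2 ^ k)) + i - i = ((2 ^ j : ℕ) : ZMod _) + ((2 ^ j : ℕ) : ZMod _) := by
      rw [add_sub_cancel_right, ← Nat.cast_add]; congr 1; rw [hj, pow_succ]; ring
    rw [e2]; exact hc _

/-- A Sylow `2`-subgroup of the symmetric group of degree a power of two is transitive. -/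
theorem exists_mem_apply_eq {j : ℕ} (hm : m = 2 ^ j) {T : Subgroup (Perm (Fin m))}
    (hT : Nat.card T = 2 ^ padicValNat 2 m.factorial) (i k : Fin m) : ∃ t : T, t.1 i = k := by
  classical
  haveI : Fact (Nat.Prime 2) := ⟨Nat.prime_two⟩
  have hm0 : 1 ≤ m := hm ▸ Nat.one_le_two_pow
  obtain ⟨n, rfl⟩ : ∃ n, m = n + 1 := ⟨m - 1, by omega⟩
  have hs : Nat.card (MulAction.stabilizer (Perm (Fin (n + 1))) i) = n.factorial := by
    have e : MulAction.orbit (Perm (Fin (n + 1))) i = Set.univ :=
      Set.eq_univ_of_forall fun x => ⟨Equiv.swap i x, Equiv.swap_apply_left i x⟩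
    have h := MulAction.orbitEquivQuotientStabilizer (Perm (Fin (n + 1))) i
    have h1 := (MulAction.stabilizer (Perm (Fin (n + 1))) i).card_eq_card_quotient_mul_card_subgroup
    rw [← Nat.card_congr h, e, Nat.card_congr (Equiv.Set.univ _), Nat.card_fin, Nat.card_perm,
      Nat.card_fin, Nat.factorial_succ] at h1
    exact (Nat.eq_of_mul_eq_mul_left (Nat.succ_pos n) h1).symm
  have hst : Nat.card (MulAction.stabilizer T i) ∣ n.factorial := by
    rw [← hs]
    exact Subgroup.card_dvd_of_injective
      ({ toFun := fun g => ⟨g.1.1, g.2⟩, map_one' := rfl, map_mul' := fun _ _ => rfl } :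
        MulAction.stabilizer T i →* MulAction.stabilizer (Perm (Fin (n + 1))) i)
      (fun a b h => Subtype.ext (Subtype.ext (congrArg (fun g :
        MulAction.stabilizer (Perm (Fin (n + 1))) i => g.1) h)))
  have h1 := (MulAction.stabilizer T i).card_eq_card_quotient_mul_card_subgroup
  rw [← Nat.card_congr (MulAction.orbitEquivQuotientStabilizer T i), hT, Nat.factorial_succ,
    padicValNat.mul n.succ_ne_zero n.factorial_ne_zero] at h1
  obtain ⟨s, hs2, hs3⟩ := (Nat.dvd_prime_pow Nat.prime_two).1 (Dvd.intro_left _ h1.symm)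
  have hsv : s ≤ padicValNat 2 n.factorial :=
    (padicValNat_dvd_iff_le n.factorial_ne_zero).1 (hs3 ▸ hst)
  rw [hs3, show padicValNat 2 n.succ = j by rw [Nat.succ_eq_add_one, hm, padicValNat.prime_pow]] at h1
  have hfull : MulAction.orbit T i = Set.univ := by
    refine Set.eq_of_subset_of_ncard_le (Set.subset_univ _) ?_ (Set.toFinite _)
    rw [Set.ncard_univ, Nat.card_fin, ← Nat.card_coe_set_eq]; refine hm.le.trans ?_
    by_contra hlt
    push Not at hlt
    have h4 : Nat.card (MulAction.orbit T i) * 2 ^ s < 2 ^ (j + padicValNat 2 n.factorial) :=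
      calc Nat.card (MulAction.orbit T i) * 2 ^ s < 2 ^ j * 2 ^ s :=
            Nat.mul_lt_mul_of_pos_right hlt (Nat.two_pow_pos s)
        _ ≤ 2 ^ j * 2 ^ padicValNat 2 n.factorial :=
            Nat.mul_le_mul_left _ (Nat.pow_le_pow_right two_pos hsv)
        _ = 2 ^ (j + padicValNat 2 n.factorial) := (pow_add _ _ _).symm
    exact absurd h1.symm (ne_of_lt h4)
  obtain ⟨t, ht⟩ : k ∈ MulAction.orbit T i := hfull ▸ Set.mem_univ k
  exact ⟨t, ht⟩

/-- **Sylow `2`-subgroups of the determinant one block group.** -/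
theorem sqComm_detKer [Fintype F] (hF : Odd (Fintype.card F)) (hm : 1 ≤ m)
    (hr : (r = 0 ∧ ∃ j, m = 2 ^ j) ∨ Fintype.card F % 4 = 3) (hr1 : r ≤ 1)
    (P : Sylow 2 (GeneralLinearGroup.det : GL (Idx m r) F →* Fˣ).ker) :
    SqComm ↥(P : Subgroup (GeneralLinearGroup.det : GL (Idx m r) F →* Fˣ).ker) := by
  classical
  haveI : Fact (Nat.Prime 2) := ⟨Nat.prime_two⟩
  have h2 := two_ne_zero_of_odd hF
  have h3 := three_le_card hF
  set B := padicValNat 2 (Fintype.card F - 1) with hB
  set A := padicValNat 2 (Fintype.card F ^ 2 - 1) with hA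
  have hvGL : ∀ n, n ≠ 0 → (Nat.card (GL (Fin n) F)).factorization 2 =
      padicValNat 2 (∏ i ∈ Finset.range n, (Fintype.card F ^ (i + 1) - 1)) := by
    intro n hn
    rw [Nat.factorization_def _ Nat.prime_two, Matrix.card_GL_field, CfsgLib.Linear.prod_pow_sub_pow,
      padicValNat.mul (pow_ne_zero _ (by omega)) (Finset.prod_ne_zero_iff.2 fun i _ => by
        have : 3 ≤ Fintype.card F ^ (i + 1) := h3.trans (Nat.le_self_pow (by omega) _)
        omega),
      padicValNat.eq_zero_of_not_dvd (n := Fintype.card F ^ _) fun h =>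
        (Nat.not_even_iff_odd.2 hF.pow) (even_iff_two_dvd.2 h), zero_add]
  have hv2 : (Nat.card (GL (Fin 2) F)).factorization 2 = A + B := by
    rw [hvGL 2 two_ne_zero]
    simpa using val_GL_two_mul hF 1
  obtain ⟨ζ, hζ⟩ : ∃ ζ : Fˣ, orderOf ζ = 2 ^ B := by
    obtain ⟨g, hg⟩ := IsCyclic.exists_ofOrder_eq_natCard (α := Fˣ)
    have hd : 2 ^ B ∣ Nat.card Fˣ := by
      rw [CfsgLib.Linear.card_units]; exact pow_padicValNat_dvd
    refine ⟨g ^ (Nat.card Fˣ / 2 ^ B), ?_⟩
    have hne : Nat.card Fˣ / 2 ^ B ≠ 0 := (Nat.div_pos (Nat.le_of_dvd Nat.card_pos hd) (Nat.two_pow_pos B)).ne'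
    rw [orderOf_pow_of_dvd hne (by rw [hg]; exact Nat.div_dvd_of_dvd hd), hg, Nat.div_div_self hd Nat.card_pos.ne']
  have haord : orderOf (diagHom F ζ) = 2 ^ B := by
    rw [← hζ]
    exact orderOf_injective (diagHom F) (fun u v h => by
      have := congrArg GeneralLinearGroup.det h
      rwa [det_diagHom, det_diagHom] at this) ζ
  obtain ⟨S, hS⟩ := (IsPGroup.of_card (p := 2) (G := Subgroup.zpowers (diagHom F ζ))
    (by rw [Nat.card_zpowers, haord])).exists_le_sylow
  obtain ⟨T, hTc, hTg⟩ := exists_perm_sylow m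
  let ψ : (S : Subgroup (GL (Fin 2) F)) →* Fˣ :=
    GeneralLinearGroup.det.comp (S : Subgroup (GL (Fin 2) F)).subtype
  let a : (S : Subgroup (GL (Fin 2) F)) := ⟨diagHom F ζ, hS (Subgroup.mem_zpowers _)⟩
  have hψa : ψ a = ζ := det_diagHom ζ
  have hrange : ψ.range = Subgroup.zpowers ζ := by
    refine (Subgroup.eq_of_le_of_card_ge ?_ ?_).symm
    · rw [Subgroup.zpowers_le]; exact ⟨a, hψa⟩
    · obtain ⟨k, hk⟩ := (S.2.to_le le_rfl).of_surjective _ ψ.rangeRestrict_surjective |>.exists_card_eq
      rw [Nat.card_zpowers, hζ, hk]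
      refine Nat.pow_le_pow_right two_pos ?_
      have hd : 2 ^ k ∣ Fintype.card F - 1 := by
        rw [← hk, ← CfsgLib.Linear.card_units (F := F)]; exact Subgroup.card_subgroup_dvd_card _
      exact (padicValNat_dvd_iff_le (by omega)).1 hd
  have hScard : Nat.card (S : Subgroup (GL (Fin 2) F)) = 2 ^ (A + B) := by
    rw [S.card_eq_multiplicity, hv2]
  have hker : SqComm ψ.ker := by
    obtain ⟨Q⟩ : Nonempty (Sylow 2 (Matrix.SpecialLinearGroup (Fin 2) F)) := Sylow.nonempty
    let f : ψ.ker →* Matrix.SpecialLinearGroup (Fin 2) F :=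
      (CfsgLib.Linear.slEquivDetKer (n := Fin 2) (F := F)).symm.toMonoidHom.comp
        { toFun := fun x => ⟨x.1.1, x.2⟩, map_one' := rfl, map_mul' := fun _ _ => rfl }
    have hf : Function.Injective f := fun x y h => by
      have h' := (CfsgLib.Linear.slEquivDetKer (n := Fin 2) (F := F)).symm.injective h
      exact Subtype.ext (Subtype.ext (congrArg (fun z :
        (GeneralLinearGroup.det : GL (Fin 2) F →* Fˣ).ker => z.1) h'))
    have hkc : Nat.card ψ.ker = 2 ^ A := by
      have h1 := ψ.ker.index_mul_card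
      rw [Subgroup.index_ker, hrange, Nat.card_zpowers, hζ, hScard, add_comm, pow_add] at h1
      exact Nat.eq_of_mul_eq_mul_left (Nat.two_pow_pos B) h1
    have hv : (Nat.card (Matrix.SpecialLinearGroup (Fin 2) F)).factorization 2 = A := by
      rw [CfsgLib.Linear.card_SL_two, Nat.factorization_def _ Nat.prime_two,
        padicValNat.mul (by omega) (by
          have : 3 ≤ Fintype.card F ^ 2 := h3.trans (Nat.le_self_pow two_ne_zero _)
          omega), padicValNat.eq_zero_of_not_dvd (n := Fintype.card F) (by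
          have := Nat.odd_iff.1 hF; omega), zero_add]
    have hc : Nat.card f.range = 2 ^ (Nat.card (Matrix.SpecialLinearGroup (Fin 2) F)).factorization 2 := by
      rw [← Nat.card_congr (MonoidHom.ofInjective hf).toEquiv, hkc, hv]
    exact sqComm_congr ((MonoidHom.ofInjective hf).trans ((Sylow.ofCard f.range hc).equiv Q)).symm
      (sqComm_SL2 hF Q)
  let f : Model (S : Subgroup (GL (Fin 2) F)) T r →* GL (Idx m r) F := blockHom
  have hker' : (GeneralLinearGroup.det : GL (Idx m r) F →* Fˣ).ker.comap f =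
      ((GeneralLinearGroup.det : GL (Idx m r) F →* Fˣ).comp f).ker := MonoidHom.comap_ker _ _
  refine sqComm_sylow_normal f (blockHom_injective h2) ?_ _ ?_ P
  · rw [card_model, hTc, hScard, Nat.card_congr (CfsgLib.Linear.glReindex (R := F)
      (Fintype.equivFin (Idx m r))).toEquiv, hvGL _ (by simp; omega), ← pow_mul, ← pow_add, ← pow_add]
    congr 1
    have hcard : Fintype.card (Idx m r) = 2 * m + r := by simp
    rw [hcard]
    rcases (by omega : r = 0 ∨ r = 1) with rfl | rfl
    · rw [add_zero (2 * m), val_GL_two_mul hF]; ring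
    · have hne : ∀ i, Fintype.card F ^ (i + 1) - 1 ≠ 0 := fun i => by
        have : 3 ≤ Fintype.card F ^ (i + 1) := h3.trans (Nat.le_self_pow (by omega) _)
        omega
      rw [Finset.prod_range_succ, padicValNat.mul (Finset.prod_ne_zero_iff.2 fun i _ => hne i) (hne _),
        val_GL_two_mul hF]
      rcases hr with ⟨h, -⟩ | h
      · omega
      · rcases pow_mod_four hF (2 * m + 1) with ⟨-, he | he⟩ | ⟨h4, -, -⟩
        · exact absurd he (Nat.not_even_two_mul_add_one m)
        · omega
        · rw [val_of_mod_four (n := Fintype.card F ^ (2 * m + 1) - 1) (by omega), hA, hB]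
          ring
  rw [hker']
  have hB1 : Fintype.card F % 4 = 3 → B = 1 := fun h => val_of_mod_four (by omega)
  refine ker_le_good_cyclic (GeneralLinearGroup.det.comp f) ψ a hTg hm hker (fun d => ?_) (fun k hk => ?_)
    (fun i d => det_blockHom_single i d) (fun t => det_blockHom_inr t) (fun j => ?_) ?_
  · have h : ψ d ∈ Subgroup.zpowers ζ := hrange ▸ ⟨d, rfl⟩
    obtain ⟨k, hk⟩ := (isOfFinOrder_of_finite ζ).mem_powers_iff_mem_zpowers.2 h
    exact ⟨k, by rw [hψa]; exact hk.symm⟩
  · refine Subtype.ext ?_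
    show diagHom F ζ ^ k = 1
    rw [← map_pow, ← hψa, hk, map_one]
  · show GeneralLinearGroup.det (blockHom _) = _
    rw [det_blockHom_sign, hψa]
    rcases hr with ⟨h, -⟩ | h
    · exact absurd j.2 (by omega)
    · rw [hB1 h, pow_one] at hζ
      exact (Units.ext ((sq_eq_one_iff.1 (by
        rw [← Units.val_pow_eq_pow_val, ← hζ, pow_orderOf_eq_one, Units.val_one])).resolve_left
        fun h1 => by
          rw [Units.val_eq_one.1 h1, orderOf_one] at hζ
          omega)).symm
  · rcases hr with ⟨h, j, hj⟩ | h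
    · exact Or.inr ⟨h, exists_mem_apply_eq hj hTc⟩
    · refine Or.inl (Subtype.ext ?_)
      show diagHom F ζ * diagHom F ζ = 1
      have h' : orderOf (diagHom F ζ) = 2 := by rw [haord, hB1 h, pow_one]
      rw [← pow_two]
      exact orderOf_dvd_iff_pow_eq_one.1 (h'.symm ▸ dvd_rfl)

/-- **Sylow `2`-subgroups of `SL_n` in odd characteristic.** -/
theorem sqComm_sl [Fintype F] (hF : Odd (Fintype.card F)) (hm : 1 ≤ m)
    (hr : (r = 0 ∧ ∃ j, m = 2 ^ j) ∨ Fintype.card F % 4 = 3) (hr1 : r ≤ 1) {n : ℕ} (hn : n = 2 * m + r)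
    (P : Sylow 2 (Matrix.SpecialLinearGroup (Fin n) F)) :
    SqComm ↥(P : Subgroup (Matrix.SpecialLinearGroup (Fin n) F)) := by
  haveI : Fact (Nat.Prime 2) := ⟨Nat.prime_two⟩
  let e : (GeneralLinearGroup.det : GL (Idx m r) F →* Fˣ).ker ≃* Matrix.SpecialLinearGroup (Fin n) F :=
    (CfsgLib.Linear.slEquivDetKer (n := Idx m r) (F := F)).symm.trans
      (CfsgLib.Linear.slReindex (Fintype.equivFinOfCardEq (by simp [hn])))
  obtain ⟨P'⟩ : Nonempty (Sylow 2 (GeneralLinearGroup.det : GL (Idx m r) F →* Fˣ).ker) := Sylow.nonempty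
  exact sqComm_sylow (e.toMonoidHom.comp (P' : Subgroup _).subtype)
    (e.injective.comp Subtype.val_injective) (sqComm_detKer hF hm hr hr1 P')
    (by rw [P'.card_eq_multiplicity, Nat.card_congr e.toEquiv]) P

end model

end CfsgLib.SylowTwoAb
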