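import Cfsg.Agent.SylowTwoAb.G2Count
import Cfsg.Agent.SylowTwoAb.LinearModel

/-!
# A Sylow `2`-subgroup of `G₂(q)` inside the stabiliser of a quaternion algebra
-/

set_option autoImplicit false
set_option linter.style.haveILetI false

namespace CfsgLib.SylowTwoAb.Oct

open Cfsg.Lie Matrix

variable {F : Type*} [Field F]

/-- The quaternion part (transposed). -/
def mPart (x : Fin 8 → F) : Matrix (Fin 2) (Fin 2) F := !![x 0, x 4; x 1, x 7]

/-- The complementary part. -/
def vPart (x : Fin 8 → F) : Matrix (Fin 2) (Fin 2) F := !![x 2, x 3; x 6, -x 5]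

/-- A vector from its two parts. -/
def mk8 (M V : Matrix (Fin 2) (Fin 2) F) : Fin 8 → F :=
  ![M 0 0, M 1 0, V 0 0, V 0 1, M 0 1, -V 1 1, V 1 0, M 1 1]

theorem mPart_mk8 (M V : Matrix (Fin 2) (Fin 2) F) : mPart (mk8 M V) = M := by
  ext i j; fin_cases i <;> fin_cases j <;> simp [mPart, mk8]

theorem vPart_mk8 (M V : Matrix (Fin 2) (Fin 2) F) : vPart (mk8 M V) = V := by
  ext i j; fin_cases i <;> fin_cases j <;> simp [vPart, mk8]

theorem mk8_parts (x : Fin 8 → F) : mk8 (mPart x) (vPart x) = x := by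
  funext i; fin_cases i <;> simp [mPart, vPart, mk8]

theorem mPart_mul (x y : Fin 8 → F) :
    mPart (zornMul x y) = mPart y * mPart x - vPart x * (vPart y).adjugate := by
  ext i j
  fin_cases i <;> fin_cases j <;>
    simp [mPart, vPart, zornMul, dot3, cross3, Matrix.adjugate_fin_two, Matrix.mul_apply,
      Fin.sum_univ_two] <;> ring

theorem vPart_mul (x y : Fin 8 → F) :
    vPart (zornMul x y) = mPart x * vPart y + (mPart y).adjugate * vPart x := by
  ext i j
  fin_cases i <;> fin_cases j <;>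
    simp [mPart, vPart, zornMul, dot3, cross3, Matrix.adjugate_fin_two, Matrix.mul_apply,
      Fin.sum_univ_two] <;> ring

/-- The action of a pair of matrices. -/
def pairLin (c e : GL (Fin 2) F) : (Fin 8 → F) →ₗ[F] (Fin 8 → F) where
  toFun x := mk8 ((c : Matrix (Fin 2) (Fin 2) F) * mPart x * (↑c⁻¹ : Matrix (Fin 2) (Fin 2) F))
    ((c : Matrix (Fin 2) (Fin 2) F) * vPart x * (↑e⁻¹ : Matrix (Fin 2) (Fin 2) F))
  map_add' x y := by
    have hm : mPart (x + y) = mPart x + mPart y := by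
      ext i j; fin_cases i <;> fin_cases j <;> simp [mPart]
    have hv : vPart (x + y) = vPart x + vPart y := by
      ext i j; fin_cases i <;> fin_cases j <;> simp [vPart]; ring
    rw [hm, hv, Matrix.mul_add, Matrix.add_mul, Matrix.mul_add, Matrix.add_mul]
    funext i; fin_cases i <;> simp [mk8]; ring
  map_smul' t x := by
    have hm : mPart (t • x) = t • mPart x := by
      ext i j; fin_cases i <;> fin_cases j <;> simp [mPart]
    have hv : vPart (t • x) = t • vPart x := by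
      ext i j; fin_cases i <;> fin_cases j <;> simp [vPart]
    simp only [hm, hv, Matrix.mul_smul, Matrix.smul_mul, RingHom.id_apply]
    funext i; fin_cases i <;> simp [mk8]

theorem pairLin_apply (c e : GL (Fin 2) F) (x : Fin 8 → F) :
    pairLin c e x = mk8 ((c : Matrix (Fin 2) (Fin 2) F) * mPart x * (↑c⁻¹ : Matrix (Fin 2) (Fin 2) F))
      ((c : Matrix (Fin 2) (Fin 2) F) * vPart x * (↑e⁻¹ : Matrix (Fin 2) (Fin 2) F)) := rfl

theorem pairLin_mul (c e c' e' : GL (Fin 2) F) :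
    pairLin (c * c') (e * e') = (pairLin c e).comp (pairLin c' e') := by
  refine LinearMap.ext fun x => ?_
  rw [LinearMap.comp_apply, pairLin_apply, pairLin_apply, pairLin_apply, mPart_mk8, vPart_mk8]
  simp [Matrix.mul_assoc]

theorem pairLin_one : pairLin (1 : GL (Fin 2) F) 1 = LinearMap.id := by
  refine LinearMap.ext fun x => ?_
  rw [pairLin_apply]
  simp [mk8_parts]

theorem adjugate_units (g : GL (Fin 2) F) :
    (g : Matrix (Fin 2) (Fin 2) F).adjugate =
      (g : Matrix (Fin 2) (Fin 2) F).det • (↑g⁻¹ : Matrix (Fin 2) (Fin 2) F) := by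
  calc (g : Matrix (Fin 2) (Fin 2) F).adjugate
      = (↑g⁻¹ : Matrix (Fin 2) (Fin 2) F) * ((g : Matrix (Fin 2) (Fin 2) F) *
          (g : Matrix (Fin 2) (Fin 2) F).adjugate) := by
        rw [← Matrix.mul_assoc, Units.inv_mul, Matrix.one_mul]
    _ = _ := by rw [Matrix.mul_adjugate, Matrix.mul_smul, Matrix.mul_one]

theorem pairLin_zorn {c e : GL (Fin 2) F}
    (h : (c : Matrix (Fin 2) (Fin 2) F).det = (e : Matrix (Fin 2) (Fin 2) F).det) (x y : Fin 8 → F) :
    pairLin c e (zornMul x y) = zornMul (pairLin c e x) (pairLin c e y) := by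
  have hd : ∀ g : GL (Fin 2) F, (↑g⁻¹ : Matrix (Fin 2) (Fin 2) F).det *
      (g : Matrix (Fin 2) (Fin 2) F).det = 1 := fun g => by
    rw [← Matrix.det_mul, Units.inv_mul, Matrix.det_one]
  have hc' : (↑c⁻¹ : Matrix (Fin 2) (Fin 2) F).adjugate =
      (↑c⁻¹ : Matrix (Fin 2) (Fin 2) F).det • (c : Matrix (Fin 2) (Fin 2) F) := by
    simpa using adjugate_units c⁻¹
  have he' : (↑e⁻¹ : Matrix (Fin 2) (Fin 2) F).adjugate =
      (↑e⁻¹ : Matrix (Fin 2) (Fin 2) F).det • (e : Matrix (Fin 2) (Fin 2) F) := by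
    simpa using adjugate_units e⁻¹
  rw [← mk8_parts (zornMul (pairLin c e x) (pairLin c e y)), mPart_mul, vPart_mul]
  simp only [pairLin_apply, mPart_mk8, vPart_mk8, mPart_mul, vPart_mul]
  congr 1
  · simp only [Matrix.adjugate_mul_distrib, adjugate_units c, he', Matrix.mul_sub, Matrix.sub_mul,
      Matrix.mul_assoc, Matrix.mul_smul, Matrix.smul_mul, smul_smul]
    congr 1
    · simp [← Matrix.mul_assoc]
    · rw [h, mul_comm (e : Matrix (Fin 2) (Fin 2) F).det, hd, one_smul, ← Matrix.mul_assoc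
        (↑e⁻¹ : Matrix (Fin 2) (Fin 2) F), Units.inv_mul, Matrix.one_mul]
  · simp only [Matrix.adjugate_mul_distrib, adjugate_units c, hc', Matrix.mul_add, Matrix.add_mul,
      Matrix.mul_assoc, Matrix.mul_smul, Matrix.smul_mul, smul_smul]
    congr 1
    · simp [← Matrix.mul_assoc]
    · rw [mul_comm (c : Matrix (Fin 2) (Fin 2) F).det, hd, one_smul]; simp [← Matrix.mul_assoc]

/-- Pairs of matrices with the same determinant, acting on octonions. -/
noncomputable def pairHom {W : Type*} [Group W] (i j : W →* GL (Fin 2) F)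
    (h : ∀ w, (i w : Matrix (Fin 2) (Fin 2) F).det = (j w : Matrix (Fin 2) (Fin 2) F).det) :
    W →* G2 F :=
  (MonoidHom.toHomUnits
    { toFun := fun w => LinearMap.toMatrix' (pairLin (i w) (j w))
      map_one' := by rw [map_one, map_one, pairLin_one, LinearMap.toMatrix'_id]
      map_mul' := fun v w => by rw [map_mul, map_mul, pairLin_mul, LinearMap.toMatrix'_comp] }).codRestrict _
    fun w x y => by
      show LinearMap.toMatrix' (pairLin (i w) (j w)) *ᵥ zornMul x y = zornMul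
        (LinearMap.toMatrix' (pairLin (i w) (j w)) *ᵥ x) (LinearMap.toMatrix' (pairLin (i w) (j w)) *ᵥ y)
      simp only [LinearMap.toMatrix'_mulVec]
      exact pairLin_zorn (h w) x y

theorem pairHom_eq_one_iff {W : Type*} [Group W] (i j : W →* GL (Fin 2) F)
    (h : ∀ w, (i w : Matrix (Fin 2) (Fin 2) F).det = (j w : Matrix (Fin 2) (Fin 2) F).det) (w : W) :
    pairHom i j h w = 1 ↔ pairLin (i w) (j w) = LinearMap.id := by
  rw [← LinearMap.toMatrix'.injective.eq_iff, LinearMap.toMatrix'_id]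
  exact ⟨fun e => congrArg (fun g : G2 F => ((g : GL (Fin 8) F) : Matrix (Fin 8) (Fin 8) F)) e,
    fun e => Subtype.ext (Units.ext e)⟩

/-- The kernel consists of equal scalar pairs. -/
theorem scalar_of_pairLin_eq_id {c e : GL (Fin 2) F} (h : pairLin c e = LinearMap.id) :
    (c : Matrix (Fin 2) (Fin 2) F) = (c : Matrix (Fin 2) (Fin 2) F) 0 0 • 1 ∧ e = c := by
  have hM : ∀ M, (c : Matrix (Fin 2) (Fin 2) F) * M * (↑c⁻¹ : Matrix (Fin 2) (Fin 2) F) = M := fun M => by
    have := congrArg mPart (LinearMap.congr_fun h (mk8 M 0))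
    simpa [pairLin_apply, mPart_mk8] using this
  have hV : (c : Matrix (Fin 2) (Fin 2) F) * (↑e⁻¹ : Matrix (Fin 2) (Fin 2) F) = 1 := by
    have := congrArg vPart (LinearMap.congr_fun h (mk8 0 1))
    simpa [pairLin_apply, vPart_mk8] using this
  have hcomm : ∀ M, (c : Matrix (Fin 2) (Fin 2) F) * M = M * (c : Matrix (Fin 2) (Fin 2) F) := fun M => by
    conv_rhs => rw [← hM M, Matrix.mul_assoc, Units.inv_mul, Matrix.mul_one]
  refine ⟨?_, ?_⟩
  · have a := hcomm !![1, 0; 0, 0]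
    have b := hcomm !![0, 1; 0, 0]
    have a01 := congrFun₂ a 0 1
    have a10 := congrFun₂ a 1 0
    have b01 := congrFun₂ b 0 1
    simp [Matrix.mul_apply, Fin.sum_univ_two] at a01 a10 b01
    ext i j
    fin_cases i <;> fin_cases j <;> simp [← a01, a10, b01]
  · have : c * e⁻¹ = 1 := Units.ext hV
    exact (mul_inv_eq_one.1 this).symm

/-- `[[0, -u], [1, 0]]`. -/
def swapGL (u : Fˣ) : GL (Fin 2) F :=
  ⟨!![0, -(u : F); 1, 0], !![0, 1; -((u⁻¹ : Fˣ) : F), 0], by simp [Matrix.one_fin_two],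
    by simp [Matrix.one_fin_two]⟩

theorem det_swapGL (u : Fˣ) : GeneralLinearGroup.det (swapGL u) = u := by
  ext
  simp [swapGL, Matrix.det_fin_two]

theorem swapGL_sq (u : Fˣ) :
    ((swapGL u ^ 2 : GL (Fin 2) F) : Matrix (Fin 2) (Fin 2) F) = (-(u : F)) • 1 := by
  simp [swapGL, pow_two, Matrix.one_fin_two, Matrix.smul_of]

variable [Fintype F]

/-- **Sylow `2`-subgroups of `G₂(q)`.** -/
theorem sqComm_G2 (hF : Odd (Fintype.card F)) (P : Sylow 2 (G2 F)) :
    SqComm ↥(P : Subgroup (G2 F)) := by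
  classical
  haveI : Fact (Nat.Prime 2) := ⟨Nat.prime_two⟩
  have h2 := two_ne_zero_of_odd hF
  have h3 := three_le_card hF
  set B := padicValNat 2 (Fintype.card F - 1) with hB
  set A := padicValNat 2 (Fintype.card F ^ 2 - 1) with hA
  have hB1 : 1 ≤ B := one_le_padicValNat_of_dvd (by omega) (by have := Nat.odd_iff.1 hF; omega)
  obtain ⟨ζ, hζ⟩ : ∃ ζ : Fˣ, orderOf ζ = 2 ^ B := by
    obtain ⟨g, hg⟩ := IsCyclic.exists_ofOrder_eq_natCard (α := Fˣ)
    have hd : 2 ^ B ∣ Nat.card Fˣ := by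
      rw [CfsgLib.Linear.card_units]; exact pow_padicValNat_dvd
    refine ⟨g ^ (Nat.card Fˣ / 2 ^ B), ?_⟩
    have hne : Nat.card Fˣ / 2 ^ B ≠ 0 := (Nat.div_pos (Nat.le_of_dvd Nat.card_pos hd) (Nat.two_pow_pos B)).ne'
    rw [orderOf_pow_of_dvd hne (by rw [hg]; exact Nat.div_dvd_of_dvd hd), hg,
      Nat.div_div_self hd Nat.card_pos.ne']
  have hs : swapGL ζ ^ (2 ^ (B + 1)) = 1 := by
    refine Units.ext ?_
    rw [pow_succ', pow_mul, Units.val_pow_eq_pow_val, swapGL_sq, smul_pow, one_pow, Units.val_one]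
    have : (-(ζ : F)) ^ (2 ^ B) = 1 := by
      rw [Even.neg_pow (Nat.even_pow.2 ⟨even_two, by omega⟩), ← Units.val_pow_eq_pow_val, ← hζ,
        pow_orderOf_eq_one, Units.val_one]
    rw [this, one_smul]
  obtain ⟨S, hS⟩ : ∃ S : Sylow 2 (GL (Fin 2) F), Subgroup.zpowers (swapGL ζ) ≤ ↑S := by
    obtain ⟨k, -, hk⟩ := (Nat.dvd_prime_pow Nat.prime_two).1 (orderOf_dvd_of_pow_eq_one hs)
    exact (IsPGroup.of_card (p := 2) (G := Subgroup.zpowers (swapGL ζ))
      (by rw [Nat.card_zpowers, hk])).exists_le_sylow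
  let ψ : (S : Subgroup (GL (Fin 2) F)) →* Fˣ :=
    GeneralLinearGroup.det.comp (S : Subgroup (GL (Fin 2) F)).subtype
  let s0 : (S : Subgroup (GL (Fin 2) F)) := ⟨swapGL ζ, hS (Subgroup.mem_zpowers _)⟩
  have hψs : ψ s0 = ζ := det_swapGL ζ
  have hrange : ψ.range = Subgroup.zpowers ζ := by
    refine (Subgroup.eq_of_le_of_card_ge ?_ ?_).symm
    · rw [Subgroup.zpowers_le]; exact ⟨s0, hψs⟩
    · obtain ⟨k, hk⟩ := ((S.2.to_le le_rfl).of_surjective _ ψ.rangeRestrict_surjective).exists_card_eq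
      rw [Nat.card_zpowers, hζ, hk]
      refine Nat.pow_le_pow_right two_pos ?_
      have hd : 2 ^ k ∣ Fintype.card F - 1 := by
        rw [← hk, ← CfsgLib.Linear.card_units (F := F)]; exact Subgroup.card_subgroup_dvd_card _
      exact (padicValNat_dvd_iff_le (by omega)).1 hd
  have hScard : Nat.card (S : Subgroup (GL (Fin 2) F)) = 2 ^ (A + B) := by
    have hq0 : Fintype.card F ≠ 0 := by omega
    have hq1 : Fintype.card F - 1 ≠ 0 := by omega
    have hq2 : Fintype.card F ^ 2 - 1 ≠ 0 := by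
      have : 3 ≤ Fintype.card F ^ 2 := h3.trans (Nat.le_self_pow two_ne_zero _)
      omega
    rw [S.card_eq_multiplicity, CfsgLib.Linear.card_GL_two, Nat.factorization_def _ Nat.prime_two,
      padicValNat.mul (mul_ne_zero hq0 hq1) hq2, padicValNat.mul hq0 hq1,
      padicValNat.eq_zero_of_not_dvd (n := Fintype.card F) (by have := Nat.odd_iff.1 hF; omega),
      zero_add, ← hB, ← hA, add_comm]
  have hkc : Nat.card ψ.ker = 2 ^ A := by
    have h1 := ψ.ker.index_mul_card
    rw [Subgroup.index_ker, hrange, Nat.card_zpowers, hζ, hScard, add_comm, pow_add] at h1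
    exact Nat.eq_of_mul_eq_mul_left (Nat.two_pow_pos B) h1
  have hker : SqComm ψ.ker := by
    obtain ⟨Q⟩ : Nonempty (Sylow 2 (Matrix.SpecialLinearGroup (Fin 2) F)) := Sylow.nonempty
    let f : ψ.ker →* Matrix.SpecialLinearGroup (Fin 2) F :=
      (CfsgLib.Linear.slEquivDetKer (n := Fin 2) (F := F)).symm.toMonoidHom.comp
        { toFun := fun x => ⟨x.1.1, x.2⟩, map_one' := rfl, map_mul' := fun _ _ => rfl }
    have hf : Function.Injective f := fun x y h => by
      have h' := (CfsgLib.Linear.slEquivDetKer (n := Fin 2) (F := F)).symm.injective h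
      exact Subtype.ext (Subtype.ext (congrArg (fun z :
        (GeneralLinearGroup.det : GL (Fin 2) F →* Fˣ).ker => z.1) h'))
    have hc : Nat.card f.range = 2 ^ (Nat.card (Matrix.SpecialLinearGroup (Fin 2) F)).factorization 2 := by
      rw [← Nat.card_congr (MonoidHom.ofInjective hf).toEquiv, hkc, CfsgLib.Linear.card_SL_two,
        Nat.factorization_def _ Nat.prime_two, padicValNat.mul (by omega) (by
          have : 3 ≤ Fintype.card F ^ 2 := h3.trans (Nat.le_self_pow two_ne_zero _)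
          omega), padicValNat.eq_zero_of_not_dvd (n := Fintype.card F) (by
          have := Nat.odd_iff.1 hF; omega), zero_add]
    exact sqComm_congr ((MonoidHom.ofInjective hf).trans ((Sylow.ofCard f.range hc).equiv Q)).symm
      (sqComm_SL2 hF Q)
  let W : Subgroup (↥(S : Subgroup (GL (Fin 2) F)) × ↥(S : Subgroup (GL (Fin 2) F))) :=
    (ψ.comp (MonoidHom.fst _ _)).eqLocus (ψ.comp (MonoidHom.snd _ _))
  let i : W →* GL (Fin 2) F :=
    (S : Subgroup (GL (Fin 2) F)).subtype.comp ((MonoidHom.fst _ _).comp W.subtype)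
  let j : W →* GL (Fin 2) F :=
    (S : Subgroup (GL (Fin 2) F)).subtype.comp ((MonoidHom.snd _ _).comp W.subtype)
  let φ : W →* G2 F := pairHom i j fun w => congrArg Units.val w.2
  have hWcard : Nat.card W = 2 ^ (A + B) * 2 ^ A := by
    rw [← hScard, ← hkc, ← Nat.card_prod]
    exact Nat.card_congr
      { toFun := fun w => (w.1.1, ⟨w.1.1⁻¹ * w.1.2, by
          have e : ψ w.1.1 = ψ w.1.2 := w.2
          show ψ _ = 1
          rw [map_mul, map_inv, e, inv_mul_cancel]⟩)
        invFun := fun p => ⟨(p.1, p.1 * p.2.1), by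
          have e : ψ p.2.1 = 1 := p.2.2
          show ψ p.1 = ψ (p.1 * p.2.1)
          rw [map_mul, e, mul_one]⟩
        left_inv := fun w => Subtype.ext (Prod.ext rfl (mul_inv_cancel_left _ _))
        right_inv := fun p => Prod.ext rfl (Subtype.ext (inv_mul_cancel_left _ _)) }
  have hkerφ : Nat.card φ.ker ≤ 2 ^ B := by
    let d : φ.ker → Subgroup.zpowers ζ := fun w => ⟨ψ w.1.1.1, hrange ▸ ⟨_, rfl⟩⟩
    have hsc : ∀ w : φ.ker, ((i w.1 : GL (Fin 2) F) : Matrix (Fin 2) (Fin 2) F) =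
        ((i w.1 : GL (Fin 2) F) : Matrix (Fin 2) (Fin 2) F) 0 0 • 1 ∧ j w.1 = i w.1 := fun w =>
      scalar_of_pairLin_eq_id ((pairHom_eq_one_iff i j _ w.1).1 w.2)
    let c0 : φ.ker →* F :=
      { toFun := fun w => ((i w.1 : GL (Fin 2) F) : Matrix (Fin 2) (Fin 2) F) 0 0
        map_one' := by simp
        map_mul' := fun v w => by
          show ((i (v.1 * w.1) : GL (Fin 2) F) : Matrix (Fin 2) (Fin 2) F) 0 0 = _
          rw [map_mul, Units.val_mul, (hsc v).1, (hsc w).1]
          simp [mul_comm] }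
    have hinj : Function.Injective c0.toHomUnits := fun v w e => by
      have e' : c0 v = c0 w := congrArg Units.val e
      have e1 : i v.1 = i w.1 := Units.ext (by rw [(hsc v).1, (hsc w).1]; exact congrArg (· • (1 : Matrix (Fin 2) (Fin 2) F)) e')
      have e2 : j v.1 = j w.1 := by rw [(hsc v).2, (hsc w).2, e1]
      exact Subtype.ext (Subtype.ext (Prod.ext (Subtype.ext e1) (Subtype.ext e2)))
    have hp : IsPGroup 2 φ.ker :=
      (IsPGroup.of_card (n := A + B + A) (by rw [hWcard, ← pow_add]) : IsPGroup 2 W).to_subgroup _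
    obtain ⟨k, hk⟩ := hp.exists_card_eq
    have hd : 2 ^ k ∣ Fintype.card F - 1 := by
      rw [← hk, ← CfsgLib.Linear.card_units (F := F)]
      exact Subgroup.card_dvd_of_injective _ hinj
    rw [hk]
    exact Nat.pow_le_pow_right two_pos ((padicValNat_dvd_iff_le (by omega)).1 hd)
  have hRp : IsPGroup 2 φ.range :=
    (IsPGroup.of_card (n := A + B + A) (by rw [hWcard, ← pow_add]) : IsPGroup 2 W).of_surjective _
      φ.rangeRestrict_surjective
  have hRcard : Nat.card φ.range = 2 ^ (Nat.card (G2 F)).factorization 2 := by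
    obtain ⟨k, hk⟩ := hRp.exists_card_eq
    have h1 : 2 ^ k ∣ Nat.card (G2 F) := hk ▸ Subgroup.card_subgroup_dvd_card _
    have h1' := (Nat.prime_two.pow_dvd_iff_le_factorization Nat.card_pos.ne').1 h1
    have h2' := φ.ker.index_mul_card
    rw [Subgroup.index_ker, hk, hWcard] at h2'
    have h4 : 2 ^ (A + B + A) ≤ 2 ^ (k + B) := by
      rw [pow_add, ← h2', pow_add]
      exact Nat.mul_le_mul_left _ hkerφ
    rw [hk, le_antisymm h1' ((val_card_G2_le hF).trans (by
      have := (Nat.pow_le_pow_iff_right (by norm_num)).1 h4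
      omega))]
  refine sqComm_sylow φ.range.subtype φ.range.subtype_injective (sqComm_top fun x _ => ?_) hRcard P
  obtain ⟨w, rfl⟩ := φ.rangeRestrict_surjective x
  let l : ψ.ker →* W :=
    { toFun := fun q => ⟨(q.1, 1), by show ψ q.1 = ψ 1; rw [map_one]; exact q.2⟩
      map_one' := rfl
      map_mul' := fun a b => Subtype.ext (Prod.ext rfl (one_mul _).symm) }
  let r : ψ.ker →* W :=
    { toFun := fun q => ⟨(1, q.1), by show ψ 1 = ψ q.1; rw [map_one]; exact q.2.symm⟩
      map_one' := rfl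
      map_mul' := fun a b => Subtype.ext (Prod.ext (one_mul _).symm rfl) }
  let d : W := ⟨(s0, s0), rfl⟩
  have hd : φ.rangeRestrict d * φ.rangeRestrict d = 1 := by
    rw [← map_mul]
    refine Subtype.ext ((pairHom_eq_one_iff i j _ _).2 ?_)
    refine LinearMap.ext fun x => ?_
    have e : i (d * d) = swapGL ζ ^ 2 ∧ j (d * d) = swapGL ζ ^ 2 := ⟨(pow_two _).symm, (pow_two _).symm⟩
    rw [e.1, e.2, pairLin_apply, LinearMap.id_apply, swapGL_sq]
    have hinv : (↑(swapGL ζ ^ 2)⁻¹ : Matrix (Fin 2) (Fin 2) F) = (-(ζ : F))⁻¹ • 1 := by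
      refine Units.inv_eq_of_mul_eq_one_right ?_
      rw [swapGL_sq, Matrix.smul_mul, Matrix.one_mul, smul_smul,
        mul_inv_cancel₀ (neg_ne_zero.2 ζ.ne_zero), one_smul]
    rw [hinv]
    simp [smul_smul, mk8_parts]
  obtain ⟨k, hk⟩ := Subgroup.mem_zpowers_iff.1 (hrange ▸ ⟨w.1.1, rfl⟩ : ψ w.1.1 ∈ Subgroup.zpowers ζ)
  have hq1 : w.1.1 * (s0 ^ k)⁻¹ ∈ ψ.ker := by
    rw [MonoidHom.mem_ker, map_mul, map_inv, map_zpow, hψs, hk, mul_inv_cancel]
  have hq2 : w.1.2 * (s0 ^ k)⁻¹ ∈ ψ.ker := by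
    have e : ψ w.1.1 = ψ w.1.2 := w.2
    rw [MonoidHom.mem_ker, map_mul, map_inv, map_zpow, hψs, hk, e, mul_inv_cancel]
  have hw : w = l ⟨_, hq1⟩ * r ⟨_, hq2⟩ * d ^ k := Subtype.ext (Prod.ext
    (by show w.1.1 = w.1.1 * (s0 ^ k)⁻¹ * 1 * s0 ^ k; simp)
    (by show w.1.2 = 1 * (w.1.2 * (s0 ^ k)⁻¹) * s0 ^ k; simp))
  rw [hw, map_mul, map_mul, map_zpow]
  refine mul_mem (mul_mem ?_ ?_) (zpow_mem (mem_good_of_sq (Subgroup.mem_top _) hd) _)
  · exact mem_good_map (φ.rangeRestrict.comp l) hker le_top _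
  · exact mem_good_map (φ.rangeRestrict.comp r) hker le_top _

end CfsgLib.SylowTwoAb.Oct
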