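import Mathlib.GroupTheory.Sylow
import Mathlib.GroupTheory.SemidirectProduct
import Mathlib.GroupTheory.Abelianization.Defs
import Mathlib.GroupTheory.Perm.ViaEmbedding
import Mathlib.Data.Nat.Factorization.Basic
import Mathlib.NumberTheory.Padics.PadicVal.Basic

/-!
# Sylow `2`-subgroups with elementary abelian abelianisation

`SqComm`: every square lies in the derived subgroup.  `good H`: the elements of `H` with this
property, a subgroup.  A model `W` of the right two-part inside `G` transfers the property to every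
Sylow `2`-subgroup.  Sylow `2`-subgroups of symmetric groups are generated by involutions.
-/

set_option autoImplicit false
set_option linter.style.haveILetI false

namespace CfsgLib.SylowTwoAb

open scoped commutatorElement

/-- Every square is in the derived subgroup. -/
def SqComm (W : Type*) [Group W] : Prop := ∀ x : W, x ^ 2 ∈ commutator W

section good

variable {W : Type*} [Group W]

/-- The elements of a subgroup whose square lies in its derived subgroup. -/
def good (H : Subgroup W) : Subgroup W where
  carrier := {x | x ∈ H ∧ x * x ∈ ⁅H, H⁆}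
  one_mem' := ⟨H.one_mem, by rw [one_mul]; exact one_mem _⟩
  mul_mem' := by
    rintro x y ⟨hx, hx'⟩ ⟨hy, hy'⟩
    refine ⟨H.mul_mem hx hy, ?_⟩
    have e : x * y * (x * y) = x * ⁅y, x⁆ * x⁻¹ * (x * x) * (y * y) := by
      rw [commutatorElement_def]; group
    rw [e]
    refine mul_mem (mul_mem ?_ hx') hy'
    have h2 : x * ⁅y, x⁆ * x⁻¹ = ⁅x * y * x⁻¹, x⁆ := by
      simp only [commutatorElement_def]; group
    rw [h2]
    exact Subgroup.commutator_mem_commutator (H.mul_mem (H.mul_mem hx hy) (H.inv_mem hx)) hx
  inv_mem' := by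
    rintro x ⟨hx, hx'⟩
    exact ⟨H.inv_mem hx, by rw [← mul_inv_rev]; exact inv_mem hx'⟩

theorem mem_good_of_sq {H : Subgroup W} {x : W} (hx : x ∈ H) (h : x * x = 1) : x ∈ good H :=
  ⟨hx, by rw [h]; exact one_mem _⟩

theorem mem_good_map {V : Type*} [Group V] (f : V →* W) (hV : SqComm V) {H : Subgroup W}
    (hf : f.range ≤ H) (v : V) : f v ∈ good H := by
  refine ⟨hf ⟨v, rfl⟩, ?_⟩
  rw [← map_mul, ← pow_two]
  have h := Subgroup.mem_map_of_mem f (hV v)
  rw [commutator_def, Subgroup.map_commutator, ← MonoidHom.range_eq_map] at h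
  exact Subgroup.commutator_mono hf hf h

theorem sqComm_of_good {H : Subgroup W} (h : H ≤ good H) : SqComm H := by
  intro x
  have h' := (h x.2).2
  rw [← Subgroup.map_subtype_commutator, Subgroup.mem_map] at h'
  obtain ⟨y, hy, e⟩ := h'
  rwa [show x ^ 2 = y from Subtype.ext (by rw [pow_two]; exact e.symm)]

theorem sqComm_top (h : (⊤ : Subgroup W) ≤ good ⊤) : SqComm W := fun x => by
  rw [commutator_def, pow_two]
  exact (h (Subgroup.mem_top x)).2

theorem sqComm_congr {V : Type*} [Group V] (e : V ≃* W) (hV : SqComm V) : SqComm W :=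
  sqComm_top fun w _ => by
    simpa using mem_good_map e.toMonoidHom hV (H := ⊤) le_top (e.symm w)

end good

/-- A model of the right order gives the property for every Sylow `2`-subgroup. -/
theorem sqComm_sylow {G W : Type*} [Group G] [Finite G] [Group W] (f : W →* G)
    (hf : Function.Injective f) (hW : SqComm W)
    (hcard : Nat.card W = 2 ^ (Nat.card G).factorization 2) (P : Sylow 2 G) :
    SqComm ↥(P : Subgroup G) := by
  haveI : Fact (Nat.Prime 2) := ⟨Nat.prime_two⟩
  have hc : Nat.card f.range = 2 ^ (Nat.card G).factorization 2 := by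
    rw [← hcard]; exact (Nat.card_congr (MonoidHom.ofInjective hf).toEquiv).symm
  exact sqComm_congr ((MonoidHom.ofInjective hf).trans ((Sylow.ofCard f.range hc).equiv P)) hW

/-- The same for the Sylow subgroups of a normal subgroup. -/
theorem sqComm_sylow_normal {G W : Type*} [Group G] [Finite G] [Group W] (f : W →* G)
    (hf : Function.Injective f) (hcard : Nat.card W = 2 ^ (Nat.card G).factorization 2)
    (N : Subgroup G) [N.Normal] (hW : N.comap f ≤ good (N.comap f)) (P : Sylow 2 N) :
    SqComm ↥(P : Subgroup N) := by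
  haveI : Fact (Nat.Prime 2) := ⟨Nat.prime_two⟩
  have hc : Nat.card f.range = 2 ^ (Nat.card G).factorization 2 := by
    rw [← hcard]; exact (Nat.card_congr (MonoidHom.ofInjective hf).toEquiv).symm
  let S : Sylow 2 G := Sylow.ofCard f.range hc
  have hS : (S : Subgroup G) = f.range := Sylow.coe_ofCard _ hc
  obtain ⟨T, hT⟩ : ∃ T : Sylow 2 N, (T : Subgroup N) = f.range.subgroupOf N := by
    have hidx : ¬ 2 ∣ (f.range.subgroupOf N).index := by
      intro h2
      change 2 ∣ f.range.relIndex N at h2
      have e1 := Subgroup.relIndex_mul_index (inf_le_right : f.range ⊓ N ≤ N)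
      have e2 := Subgroup.relIndex_mul_index (inf_le_left : f.range ⊓ N ≤ f.range)
      rw [Subgroup.inf_relIndex_right] at e1
      rw [Subgroup.inf_relIndex_left, ← e1] at e2
      obtain ⟨a, ha⟩ := h2
      obtain ⟨b, hb⟩ := Subgroup.relIndex_dvd_index_of_normal N f.range
      have hpos : N.relIndex f.range ≠ 0 := Subgroup.index_ne_zero_of_finite
      rw [ha, hb] at e2
      refine S.not_dvd_index (hS.symm ▸ (⟨a * b, ?_⟩ : 2 ∣ f.range.index))
      refine mul_left_cancel₀ hpos ?_
      rw [e2]; ring
    have hp : IsPGroup 2 ↥(f.range.subgroupOf N) := by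
      have h1 : IsPGroup 2 f.range := hS ▸ S.2
      exact h1.comap_subtype
    exact ⟨hp.toSylow hidx, rfl⟩
  let e : ↥(N.comap f) ≃* ↥(T : Subgroup N) :=
    MulEquiv.ofBijective
      ({ toFun := fun w => ⟨⟨f w.1, w.2⟩, hT ▸ ⟨w.1, rfl⟩⟩
         map_one' := Subtype.ext (Subtype.ext (map_one f))
         map_mul' := fun a b => Subtype.ext (Subtype.ext (map_mul f a.1 b.1)) } :
          ↥(N.comap f) →* ↥(T : Subgroup N))
      ⟨fun a b h => Subtype.ext (hf (congrArg (fun z : ↥(T : Subgroup N) => (z.1 : G)) h)),
        fun t => by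
          obtain ⟨w, hw⟩ : (t.1 : G) ∈ f.range :=
            Subgroup.mem_subgroupOf.1 ((SetLike.ext_iff.1 hT t.1).1 t.2)
          exact ⟨⟨w, show f w ∈ N by rw [hw]; exact t.1.2⟩, Subtype.ext (Subtype.ext hw)⟩⟩
  exact sqComm_congr (e.trans (T.equiv P)) (sqComm_of_good hW)

section perm

open Equiv

/-- Generated by involutions. -/
def InvGen {G : Type*} [Group G] (H : Subgroup G) : Prop :=
  H ≤ Subgroup.closure {x | x ∈ H ∧ x * x = 1}

theorem InvGen.map {G K : Type*} [Group G] [Group K] {H : Subgroup G} (h : InvGen H) (f : G →* K) :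
    InvGen (H.map f) := by
  refine (Subgroup.map_mono h).trans ?_
  rw [MonoidHom.map_closure]
  refine Subgroup.closure_mono ?_
  rintro _ ⟨x, ⟨hx, hxx⟩, rfl⟩
  exact ⟨⟨x, hx, rfl⟩, by rw [← map_mul, hxx, map_one]⟩

variable {k : ℕ}

/-- Permuting signs. -/
def signAct (T : Subgroup (Perm (Fin k))) : T →* MulAut (Fin k → ℤˣ) where
  toFun π :=
    { toFun := fun a i => a (π.1⁻¹ i)
      invFun := fun a i => a (π.1 i)
      left_inv := fun a => by ext1 i; simp
      right_inv := fun a => by ext1 i; simp
      map_mul' := fun a b => rfl }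
  map_one' := by ext1 a; rfl
  map_mul' π ρ := by ext1 a; rfl

/-- The permutation of `Fin k × ℤˣ` given by signs and a permutation. -/
def signPerm (T : Subgroup (Perm (Fin k))) :
    (Fin k → ℤˣ) ⋊[signAct T] T →* Perm (Fin k × ℤˣ) where
  toFun w :=
    { toFun := fun x => (w.right.1 x.1, w.left (w.right.1 x.1) * x.2)
      invFun := fun x => (w.right.1⁻¹ x.1, w.left x.1 * x.2)
      left_inv := fun x => by simp [← mul_assoc, Int.units_mul_self]
      right_inv := fun x => by simp [← mul_assoc, Int.units_mul_self] }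
  map_one' := by ext x <;> simp
  map_mul' v w := by
    ext x
    · simp
    · change (((v.left * (signAct T v.right) w.left) ((v.right * w.right).1 x.1) * x.2 : ℤˣ) : ℤ) = _
      simp [signAct, mul_assoc]

theorem signPerm_injective (T : Subgroup (Perm (Fin k))) : Function.Injective (signPerm T) := by
  rw [injective_iff_map_eq_one]
  intro w h
  have h' : ∀ x, (w.right.1 x.1, w.left (w.right.1 x.1) * x.2) = x := fun x =>
    congrArg (fun e : Perm (Fin k × ℤˣ) => e x) h
  have h1 : w.right = 1 := Subtype.ext (Equiv.ext fun i => congrArg Prod.fst (h' (i, 1)))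
  refine SemidirectProduct.ext (funext fun i => ?_) h1
  have := congrArg Prod.snd (h' (i, 1))
  simpa [h1] using this

/-- Sylow `2`-subgroups of symmetric groups are generated by involutions. -/
theorem exists_perm_sylow : ∀ m : ℕ, ∃ T : Subgroup (Perm (Fin m)),
    Nat.card T = 2 ^ padicValNat 2 m.factorial ∧ InvGen T := by
  intro m
  induction m using Nat.strong_induction_on with
  | _ m ih =>
    haveI : Fact (Nat.Prime 2) := ⟨Nat.prime_two⟩
    rcases m with _ | _ | m
    · exact ⟨⊥, by simp, fun x hx => Subgroup.subset_closure ⟨hx, by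
        rw [Subgroup.mem_bot.1 hx, one_mul]⟩⟩
    · exact ⟨⊥, by simp, fun x hx => Subgroup.subset_closure ⟨hx, by
        rw [Subgroup.mem_bot.1 hx, one_mul]⟩⟩
    obtain ⟨k, r, hr, hm⟩ : ∃ k r, r < 2 ∧ m + 2 = 2 * k + r :=
      ⟨(m + 2) / 2, (m + 2) % 2, Nat.mod_lt _ two_pos, (Nat.div_add_mod _ 2).symm⟩
    obtain ⟨T, hTc, hTg⟩ := ih k (by omega)
    have hW : InvGen (⊤ : Subgroup ((Fin k → ℤˣ) ⋊[signAct T] T)) := by
      intro w _
      rw [← SemidirectProduct.inl_left_mul_inr_right w]
      refine mul_mem (Subgroup.subset_closure ⟨trivial, ?_⟩) ?_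
      · rw [← map_mul, show w.left * w.left = 1 from funext fun i => Int.units_mul_self _, map_one]
      · have h1 := Subgroup.mem_map_of_mem T.subtype (Subgroup.mem_top w.right)
        rw [← MonoidHom.range_eq_map, Subgroup.range_subtype] at h1
        obtain ⟨t, ht⟩ := w.right
        show SemidirectProduct.inr (⟨t, ht⟩ : T) ∈ _
        have h2 : (⊤ : Subgroup T) ≤ Subgroup.closure {x : T | x * x = 1} := by
          intro x _
          have hx := hTg x.2
          rw [← Subgroup.mem_map_iff_mem T.subtype_injective, MonoidHom.map_closure]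
          refine Subgroup.closure_mono ?_ hx
          rintro y ⟨hy, hyy⟩
          exact ⟨⟨y, hy⟩, Subtype.ext hyy, rfl⟩
        have h3 := Subgroup.mem_map_of_mem
          (SemidirectProduct.inr (N := Fin k → ℤˣ) (φ := signAct T)) (h2 (Subgroup.mem_top ⟨t, ht⟩))
        rw [MonoidHom.map_closure] at h3
        refine Subgroup.closure_mono ?_ h3
        rintro _ ⟨x, hx, rfl⟩
        exact ⟨trivial, by rw [← map_mul, show x * x = 1 from hx, map_one]⟩
    let em : Fin k × ℤˣ ↪ Fin (m + 2) :=
      (Fintype.equivFinOfCardEq (α := Fin k × ℤˣ) (n := 2 * k) (by simp [mul_comm])).toEmbedding.trans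
        (Fin.castLEEmb (by omega))
    let f : (Fin k → ℤˣ) ⋊[signAct T] T →* Perm (Fin (m + 2)) :=
      (Equiv.Perm.viaEmbeddingHom em).comp (signPerm T)
    have hf : Function.Injective f :=
      (Equiv.Perm.viaEmbeddingHom_injective em).comp (signPerm_injective T)
    refine ⟨f.range, ?_, ?_⟩
    · rw [← Nat.card_congr (MonoidHom.ofInjective hf).toEquiv, SemidirectProduct.card, hTc,
        Nat.card_fun, Nat.card_eq_fintype_card (α := ℤˣ), Fintype.card_units_int, Nat.card_fin,
        ← pow_add, hm, padicValNat_factorial_mul_add _ hr, padicValNat_factorial_mul, add_comm]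
    · rw [MonoidHom.range_eq_map]
      exact hW.map f

end perm

end CfsgLib.SylowTwoAb
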