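import Cfsg.Agent.SylowTwoAb.Wreath
import Mathlib.LinearAlgebra.Matrix.ToLin
import Mathlib.Tactic.LinearCombination
import Mathlib.LinearAlgebra.Matrix.GeneralLinearGroup.Defs

/-!
# Wreath products of `2 × 2` matrix groups as block monomial matrices

`blockHom D T : (D wr T) × {±1}^r → GL((Fin 2 × Fin m) ⊕ Fin r)`.
-/

set_option autoImplicit false
set_option linter.style.haveILetI false

namespace CfsgLib.SylowTwoAb

open Matrix Equiv

variable {F : Type*} [Field F] {m r : ℕ} (D : Subgroup (GL (Fin 2) F)) (T : Subgroup (Perm (Fin m)))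

/-- The model group. -/
abbrev Model (r : ℕ) := Wr ↥D T × (Fin r → ℤˣ)

/-- The index type of the block matrices. -/
abbrev Idx (m r : ℕ) := (Fin 2 × Fin m) ⊕ Fin r

variable {D T}

/-- The linear map of a model element. -/
def blockLin (w : Model D T r) : (Idx m r → F) →ₗ[F] (Idx m r → F) where
  toFun v := Sum.elim
    (fun x => (((w.1.left x.2 : D) : GL (Fin 2) F).val *ᵥ
      fun b => v (Sum.inl (b, w.1.right.1⁻¹ x.2))) x.1)
    fun j => ((w.2 j : ℤ) : F) * v (Sum.inr j)
  map_add' u v := by
    funext x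
    rcases x with ⟨a, i⟩ | j
    · simp only [Sum.elim_inl, Pi.add_apply]
      rw [show (fun b => u (Sum.inl (b, w.1.right.1⁻¹ i)) + v (Sum.inl (b, w.1.right.1⁻¹ i))) =
        (fun b => u (Sum.inl (b, w.1.right.1⁻¹ i))) + fun b => v (Sum.inl (b, w.1.right.1⁻¹ i)) from rfl,
        Matrix.mulVec_add]
      rfl
    · simp [mul_add]
  map_smul' t v := by
    funext x
    rcases x with ⟨a, i⟩ | j
    · simp only [Sum.elim_inl, Pi.smul_apply, RingHom.id_apply]
      rw [show (fun b => t • v (Sum.inl (b, w.1.right.1⁻¹ i))) =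
        t • fun b => v (Sum.inl (b, w.1.right.1⁻¹ i)) from rfl, Matrix.mulVec_smul]
      rfl
    · simp [mul_left_comm]

theorem blockLin_inl (w : Model D T r) (v : Idx m r → F) (a : Fin 2) (i : Fin m) :
    blockLin w v (Sum.inl (a, i)) = (((w.1.left i : D) : GL (Fin 2) F).val *ᵥ
      fun b => v (Sum.inl (b, w.1.right.1⁻¹ i))) a := rfl

theorem blockLin_inr (w : Model D T r) (v : Idx m r → F) (j : Fin r) :
    blockLin w v (Sum.inr j) = ((w.2 j : ℤ) : F) * v (Sum.inr j) := rfl

theorem blockLin_one : blockLin (1 : Model D T r) = (LinearMap.id : (Idx m r → F) →ₗ[F] _) := by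
  refine LinearMap.ext fun v => funext fun x => ?_
  rcases x with ⟨a, i⟩ | j <;> simp [blockLin_inl, blockLin_inr]

theorem blockLin_mul (w z : Model D T r) :
    blockLin (w * z) = (blockLin w).comp (blockLin (F := F) z) := by
  refine LinearMap.ext fun v => funext fun x => ?_
  rcases x with ⟨a, i⟩ | j
  · rw [LinearMap.comp_apply, blockLin_inl, blockLin_inl]
    have h1 : ((w * z).1.left i : D) = w.1.left i * z.1.left (w.1.right.1⁻¹ i) := rfl
    have h2 : (w * z).1.right.1⁻¹ i = z.1.right.1⁻¹ (w.1.right.1⁻¹ i) := by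
      show (w.1.right.1 * z.1.right.1)⁻¹ i = _
      simp [_root_.mul_inv_rev]
    rw [h1, h2, Subgroup.coe_mul, Units.val_mul, ← Matrix.mulVec_mulVec]
    congr 2
  · simp [blockLin_inr, mul_assoc]

/-- The block matrices. -/
noncomputable def blockHom : Model D T r →* GL (Idx m r) F :=
  MonoidHom.toHomUnits
    { toFun := fun w => LinearMap.toMatrix' (blockLin w)
      map_one' := by rw [blockLin_one, LinearMap.toMatrix'_id]
      map_mul' := fun w z => by rw [blockLin_mul, LinearMap.toMatrix'_comp] }

theorem blockHom_mulVec (w : Model D T r) (v : Idx m r → F) :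
    ((blockHom w : GL (Idx m r) F) : Matrix (Idx m r) (Idx m r) F) *ᵥ v = blockLin w v := by
  show LinearMap.toMatrix' (blockLin w) *ᵥ v = _
  rw [← Matrix.toLin'_apply, Matrix.toLin'_toMatrix']

theorem blockHom_injective (h2 : (2 : F) ≠ 0) :
    Function.Injective (blockHom (D := D) (T := T) (r := r)) := by
  rw [injective_iff_map_eq_one]
  intro w hw
  have hv : ∀ v, blockLin w v = v := fun v => by
    rw [← blockHom_mulVec w v, hw, Units.val_one, Matrix.one_mulVec]
  have hr : w.1.right = 1 := by
    refine Subtype.ext (Equiv.ext fun k => ?_)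
    show w.1.right.1 k = k
    by_contra hk
    let v : Idx m r → F := Sum.elim (fun x => if x.2 = w.1.right.1 k then 1 else 0) 0
    have h := congrFun (hv v) (Sum.inl (0, w.1.right.1 k))
    rw [blockLin_inl] at h
    simp [v, Ne.symm hk, Matrix.mulVec, dotProduct] at h
  refine Prod.ext (SemidirectProduct.ext (funext fun i => Subtype.ext (Units.ext ?_)) hr)
    (funext fun j => ?_)
  · refine Matrix.ext_iff_mulVec.2 fun u => funext fun a => ?_
    have h := congrFun (hv (Sum.elim (fun x => u x.1) 0)) (Sum.inl (a, i))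
    rw [blockLin_inl] at h
    simpa using h
  · have h := congrFun (hv (Sum.elim 0 fun _ => 1)) (Sum.inr j)
    rw [blockLin_inr] at h
    simp only [Sum.elim_inr, mul_one] at h
    rcases Int.units_eq_one_or (w.2 j) with e | e
    · exact e
    · rw [e] at h
      simp at h
      exact absurd (show (2 : F) = 0 by linear_combination -h) h2

theorem card_model : Nat.card (Model D T r) = Nat.card D ^ m * Nat.card T * 2 ^ r := by
  rw [Nat.card_prod, SemidirectProduct.card, Nat.card_fun, Nat.card_fun, Nat.card_fin, Nat.card_fin,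
    Nat.card_eq_fintype_card (α := ℤˣ), Fintype.card_units_int]

end CfsgLib.SylowTwoAb
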