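import Cfsg.Agent.SylowTwoAb.BlockRep
import Cfsg.Agent.SylowTwoAb.OrthEquiv
import Cfsg.Agent.Forms.OrthDet

/-!
# Sylow `2`-subgroups of `Ω` from orthogonal sums of planes and lines

`sqComm_omega`: if the orthogonal model `(O₂ wr S_m) × O₁^r` of a form contains a Sylow `2`-subgroup
of the isometry group, every Sylow `2`-subgroup of `Ω` has elementary abelian abelianisation.
-/

set_option autoImplicit false
set_option linter.style.haveILetI false

namespace CfsgLib.SylowTwoAb

open Matrix Equiv CfsgLib.Spinor CfsgLib.Forms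
open scoped commutatorElement

section generic

variable {W : Type*} [Group W]

theorem good_normal (H : Subgroup W) [H.Normal] : (good H).Normal where
  conj_mem := by
    rintro x ⟨hx, hxx⟩ g
    refine ⟨‹H.Normal›.conj_mem x hx g, ?_⟩
    rw [show g * x * g⁻¹ * (g * x * g⁻¹) = g * (x * x) * g⁻¹ by group]
    exact (Subgroup.commutator_normal H H).conj_mem _ hxx g

variable {D : Type*} [Group D] {m r : ℕ} {T : Subgroup (Perm (Fin m))}

theorem units_prod_mul_self (a : ℤˣ × ℤˣ) : a * a = 1 :=
  Prod.ext (Int.units_mul_self _) (Int.units_mul_self _)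

/-- The kernel of parity and spinor norm on the model. -/
theorem ker_le_good (χ : Wr D T × (Fin r → ℤˣ) →* ℤˣ × ℤˣ) (ψ : D →* ℤˣ × ℤˣ)
    (hT : InvGen T) (hm : 2 ≤ m) (hψ : Function.Surjective ψ)
    (hinv : ∀ d, (ψ d).1 = -1 → d * d = 1)
    (hsingle : ∀ i d, χ (SemidirectProduct.inl (Pi.mulSingle i d), 1) = ψ d)
    (hperm : ∀ t, χ (SemidirectProduct.inr t, 1) = 1)
    (hsign : ∀ j, (χ (1, Pi.mulSingle j (-1))).1 = -1) :
    χ.ker ≤ good χ.ker := by
  haveI := good_normal χ.ker
  have hker : good χ.ker ≤ χ.ker := fun _ h => h.1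
  let single : Fin m → D → Wr D T × (Fin r → ℤˣ) := fun i d =>
    (SemidirectProduct.inl (Pi.mulSingle i d), 1)
  have hs2 : ∀ i d, (ψ d).1 = -1 → single i d * single i d = 1 := fun i d h => by
    simp [single, ← map_mul, ← Pi.mulSingle_mul, hinv d h]
  have hscomm : ∀ i j d e, i ≠ j → Commute (single i d) (single j e) := fun i j d e h =>
    ((Pi.mulSingle_commute (f := fun _ : Fin m => D) h d e).map
      (SemidirectProduct.inl : (Fin m → D) →* Wr D T)).prod (Commute.one_left 1)
  have pair : ∀ x y, Commute x y → x * x = 1 → y * y = 1 → χ x = χ y → x * y ∈ good χ.ker := by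
    intro x y hc hx hy e
    refine mem_good_of_sq (by rw [MonoidHom.mem_ker, map_mul, e, units_prod_mul_self]) ?_
    rw [hc.symm.mul_mul_mul_comm, hx, hy, one_mul]
  obtain ⟨dp, hdp⟩ := hψ (-1, 1)
  obtain ⟨dn, hdn⟩ := hψ (-1, -1)
  let i0 : Fin m := ⟨0, by omega⟩
  let i1 : Fin m := ⟨1, by omega⟩
  have hi : i0 ≠ i1 := by simp [i0, i1]
  let π := QuotientGroup.mk' (good χ.ker)
  have hπ : ∀ x y, x * y ∈ good χ.ker → y * y = 1 → π x = π y := fun x y h hy => by
    have h1 : π (x * y) = 1 := (QuotientGroup.eq_one_iff _).2 h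
    rw [map_mul, mul_eq_one_iff_eq_inv] at h1
    rw [h1, inv_eq_iff_mul_eq_one, ← map_mul, hy, map_one]
  set S := π (single i0 dp) with hS
  set Tt := π (single i1 dn) with hTt
  have plane : ∀ i d, (ψ d).1 = -1 → π (single i d) = S ∨ π (single i d) = Tt := by
    intro i d hd
    have same : ∀ (k : Fin m) (e : D), (ψ e).1 = -1 → ψ d = ψ e → π (single i d) = π (single k e) := by
      intro k e he hde
      have key : ∀ (i k : Fin m) (d e : D), i ≠ k → (ψ d).1 = -1 → (ψ e).1 = -1 → ψ d = ψ e →
          π (single i d) = π (single k e) := fun i k d e h hd he hde =>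
        hπ _ _ (pair _ _ (hscomm i k d e h) (hs2 i d hd) (hs2 k e he)
          ((hsingle i d).trans (hde.trans (hsingle k e).symm))) (hs2 k e he)
      rcases eq_or_ne i k with rfl | h
      · obtain ⟨l, hl⟩ := @exists_ne (Fin m) (Fin.nontrivial_iff_two_le.2 hm) i
        exact (key i l d d hl.symm hd hd rfl).trans (key l i d e hl hd he hde)
      · exact key i k d e h hd he hde
    rcases Int.units_eq_one_or (ψ d).2 with h | h
    · exact Or.inl (same i0 dp (by rw [hdp]) (by rw [hdp]; exact Prod.ext hd h))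
    · exact Or.inr (same i1 dn (by rw [hdn]) (by rw [hdn]; exact Prod.ext hd h))
  have sign : ∀ j, π (1, Pi.mulSingle j (-1)) = S ∨ π (1, Pi.mulSingle j (-1)) = Tt := by
    intro j
    have h2 : ((1, Pi.mulSingle j (-1)) : Wr D T × (Fin r → ℤˣ)) * (1, Pi.mulSingle j (-1)) = 1 := by
      simp [← Pi.mulSingle_mul]
    have hc : ∀ i d, Commute ((1, Pi.mulSingle j (-1)) : Wr D T × (Fin r → ℤˣ)) (single i d) :=
      fun i d => (Commute.one_left _).prod (Commute.one_right _)
    rcases Int.units_eq_one_or (χ (1, Pi.mulSingle j (-1))).2 with h | h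
    · exact Or.inl (hπ _ _ (pair _ _ (hc i0 dp) h2 (hs2 i0 dp (by rw [hdp]))
        (by rw [show χ (single i0 dp) = ψ dp from hsingle _ _, hdp]; exact Prod.ext (hsign j) h))
        (hs2 i0 dp (by rw [hdp])))
    · exact Or.inr (hπ _ _ (pair _ _ (hc i1 dn) h2 (hs2 i1 dn (by rw [hdn]))
        (by rw [show χ (single i1 dn) = ψ dn from hsingle _ _, hdn]; exact Prod.ext (hsign j) h))
        (hs2 i1 dn (by rw [hdn])))
  set U := Subgroup.closure {S, Tt} with hU
  have hSU : ∀ x, π x = S ∨ π x = Tt → x ∈ U.comap π := fun x h => by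
    rcases h with h | h <;> exact Subgroup.mem_comap.2 (h ▸ Subgroup.subset_closure (by simp))
  have hgood : good χ.ker ≤ U.comap π := fun x hx => by
    rw [Subgroup.mem_comap, show π x = 1 from (QuotientGroup.eq_one_iff _).2 hx]
    exact one_mem _
  have hall : ∀ w, π w ∈ U := by
    rintro ⟨w, ε⟩
    rw [show ((w, ε) : Wr D T × (Fin r → ℤˣ)) =
        (SemidirectProduct.inl w.left, 1) * (SemidirectProduct.inr w.right, 1) * (1, ε) by
      simp [SemidirectProduct.inl_left_mul_inr_right], ← Subgroup.mem_comap]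
    refine mul_mem (mul_mem ?_ ?_) ?_
    · refine inl_mem_of_single (M := (U.comap π).comap (MonoidHom.inl _ _)) (fun i d => ?_) _
      show single i d ∈ U.comap π
      rcases Int.units_eq_one_or (ψ d).1 with h | h
      · rw [show single i d = single i (d * dp) * single i dp from by
          simp [single, ← map_mul, ← Pi.mulSingle_mul, mul_assoc, hinv dp (by rw [hdp])]]
        exact mul_mem (hSU _ (plane _ _ (by simp [map_mul, h, hdp])))
          (hSU _ (plane _ _ (by rw [hdp])))
      · exact hSU _ (plane _ _ h)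
    · refine inr_mem_of_invGen (M := (U.comap π).comap (MonoidHom.inl _ _)) hT (fun t ht => ?_) _
      refine hgood (mem_good_of_sq (hperm t) ?_)
      simp [← map_mul, ht]
    · show (MonoidHom.inr (Wr D T) (Fin r → ℤˣ)) ε ∈ U.comap π
      refine Subgroup.pi_mem_of_mulSingle_mem (H := (U.comap π).comap (MonoidHom.inr _ _)) ε
        fun j => ?_
      rcases Int.units_eq_one_or (ε j) with h | h <;> rw [h]
      · rw [Pi.mulSingle_one]; exact one_mem _
      · exact hSU _ (sign j)
  have hST : Commute S Tt := (hscomm i0 i1 dp dn hi).map π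
  have hSS : S * S = 1 := by rw [hS, ← map_mul, hs2 i0 dp (by rw [hdp]), map_one]
  have hTT : Tt * Tt = 1 := by rw [hTt, ← map_mul, hs2 i1 dn (by rw [hdn]), map_one]
  have four : ∀ u ∈ U, u = 1 ∨ u = S ∨ u = Tt ∨ u = S * Tt := by
    intro u hu
    induction hu using Subgroup.closure_induction with
    | mem x hx => rcases hx with rfl | rfl <;> simp
    | one => simp
    | mul x y _ _ hx hy =>
      have e1 : S * (S * Tt) = Tt := by rw [← mul_assoc, hSS, one_mul]
      have e2 : Tt * (S * Tt) = S := by rw [← mul_assoc, ← hST.eq, mul_assoc, hTT, mul_one]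
      have e3 : Tt * S = S * Tt := hST.eq.symm
      rcases hx with rfl | rfl | rfl | rfl <;> rcases hy with rfl | rfl | rfl | rfl <;>
        simp [mul_assoc, hSS, hTT, e1, e2, e3]
    | inv x _ hx =>
      have e1 : S⁻¹ = S := inv_eq_of_mul_eq_one_right hSS
      have e2 : Tt⁻¹ = Tt := inv_eq_of_mul_eq_one_right hTT
      rcases hx with rfl | rfl | rfl | rfl <;> simp [e1, e2, hST.eq]
  intro w hw
  let χ' := QuotientGroup.lift (good χ.ker) χ hker
  have hχ' : ∀ x, χ' (π x) = χ x := fun x => rfl
  have c1 : χ' S = (-1, 1) := by rw [hS, hχ', hsingle, hdp]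
  have c2 : χ' Tt = (-1, -1) := by rw [hTt, hχ', hsingle, hdn]
  have h0 : χ' (π w) = 1 := hw
  rcases four _ (hall w) with h | h | h | h
  · exact (QuotientGroup.eq_one_iff _).1 h
  all_goals
    rw [h] at h0
    simp [c1, c2] at h0

end generic

section model

variable {F : Type*} [Field F] {m r : ℕ}

/-- The form `x² + y²`. -/
noncomputable abbrev planeQ (F : Type*) [Field F] : QuadraticForm F (Fin 2 → F) :=
  QuadraticMap.weightedSumSquares F fun _ : Fin 2 => (1 : F)

/-- The orthogonal sum of `m` copies of `x² + y²` and `r` lines. -/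
noncomputable abbrev modelQ (m : ℕ) (c : Fin r → F) : QuadraticForm F (Idx m r → F) :=
  QuadraticMap.weightedSumSquares F (Sum.elim (fun _ => 1) c)

theorem modelQ_apply (c : Fin r → F) (v : Idx m r → F) :
    modelQ m c v = (∑ i : Fin m, planeQ F fun b => v (Sum.inl (b, i))) +
      ∑ j, c j * v (Sum.inr j) ^ 2 := by
  simp only [modelQ, planeQ, QuadraticMap.weightedSumSquares_apply, smul_eq_mul, Fintype.sum_sum_type,
    Sum.elim_inl, Sum.elim_inr, Fintype.sum_prod_type_right, pow_two]

/-- The big model: isometries of the planes, all permutations of the planes, all signs. -/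
noncomputable def bigHom (c : Fin r → F) :
    Model (Cfsg.isometryGroup F ⇑(planeQ F)) (⊤ : Subgroup (Perm (Fin m))) r →*
      ↥(Cfsg.isometryGroup F ⇑(modelQ m c)) :=
  blockHom.codRestrict _ fun w v _ => by
    show modelQ m c (((blockHom w : GL (Idx m r) F) : Matrix (Idx m r) (Idx m r) F) *ᵥ v) =
      modelQ m c v
    rw [blockHom_mulVec, modelQ_apply, modelQ_apply]
    congr 1
    · refine (Fintype.sum_congr _ _ fun i => ?_).trans
        (Equiv.sum_comp (w.1.right.1⁻¹) fun i => planeQ F fun b => v (Sum.inl (b, i)))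
      refine Eq.trans ?_ (quad_mulVec (planeQ F) (w.1.left i) fun b => v (Sum.inl (b, w.1.right.1⁻¹ i)))
      rfl
    · refine Fintype.sum_congr _ _ fun j => ?_
      rw [blockLin_inr, mul_pow, ← Int.cast_pow, ← Units.val_pow_eq_pow_val, Int.units_sq]
      simp

theorem mat_bigHom_mulVec (c : Fin r → F)
    (w : Model (Cfsg.isometryGroup F ⇑(planeQ F)) (⊤ : Subgroup (Perm (Fin m))) r) (v : Idx m r → F) :
    mat (modelQ m c) (bigHom c w) *ᵥ v = blockLin w v :=
  blockHom_mulVec w v

/-- A vector in the `i`-th plane. -/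
def planeVec (r : ℕ) (i : Fin m) (v : Fin 2 → F) : Idx m r → F :=
  Sum.elim (fun x => if x.2 = i then v x.1 else 0) 0

theorem modelQ_planeVec (c : Fin r → F) (i : Fin m) (v : Fin 2 → F) :
    modelQ m c (planeVec r i v) = planeQ F v := by
  rw [modelQ_apply, Fintype.sum_eq_single i]
  · simp [planeVec]
  · intro k hk
    simp [planeVec, hk]

theorem polar_planeVec (c : Fin r → F) (i : Fin m) (v : Fin 2 → F) (x : Idx m r → F) :
    QuadraticMap.polar (⇑(modelQ m c)) (planeVec r i v) x =
      QuadraticMap.polar (⇑(planeQ F)) v fun b => x (Sum.inl (b, i)) := by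
  simp only [QuadraticMap.polar, modelQ_planeVec, modelQ_apply]
  have h : ∀ k, k ≠ i → (fun b => (planeVec r i v + x) (Sum.inl (b, k))) = fun b => x (Sum.inl (b, k)) := by
    intro k hk
    funext b
    simp [planeVec, hk]
  have hi : (fun b => (planeVec r i v + x) (Sum.inl (b, i))) = v + fun b => x (Sum.inl (b, i)) := by
    funext b
    simp [planeVec]
  rw [← Finset.add_sum_erase _ _ (Finset.mem_univ i), ← Finset.add_sum_erase _ _ (Finset.mem_univ i), hi,
    Finset.sum_congr rfl fun k hk => congrArg (planeQ F) (h k (Finset.ne_of_mem_erase hk))]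
  simp [planeVec]
  ring

theorem bigHom_single_reflIso (c : Fin r → F) (i : Fin m) (v : Fin 2 → F) (hv : planeQ F v ≠ 0) :
    bigHom c (SemidirectProduct.inl (Pi.mulSingle i (reflIso (planeQ F) v hv)), 1) =
      reflIso (modelQ m c) (planeVec r i v) (by rw [modelQ_planeVec]; exact hv) := by
  refine mat_ext _ (Matrix.ext_iff_mulVec.2 fun x => ?_)
  rw [mat_bigHom_mulVec, mat_reflIso, reflectionMatrix_mulVec, Spinor.refl_apply, modelQ_planeVec,
    polar_planeVec]
  funext y
  rcases y with ⟨a, k⟩ | j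
  · rw [blockLin_inl]
    rcases eq_or_ne k i with rfl | hk
    · simp only [SemidirectProduct.left_inl, Pi.mulSingle_eq_same, reflIso_coe,
        reflectionMatrix_mulVec, Spinor.refl_apply]
      simp [planeVec]
    · simp [planeVec, hk]
  · simp [blockLin_inr, planeVec]

/-- The reflection exchanging coordinate `a` of the planes `j` and `k`. -/
def diffVec (r : ℕ) (a : Fin 2) (j k : Fin m) : Idx m r → F :=
  Pi.single (Sum.inl (a, j)) 1 - Pi.single (Sum.inl (a, k)) 1

theorem polar_single (c : Fin r → F) (z : Idx m r) (x : Idx m r → F) :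
    QuadraticMap.polar (⇑(modelQ m c)) (Pi.single z 1) x = 2 * Sum.elim (fun _ => 1) c z * x z := by
  simp only [QuadraticMap.polar, modelQ, QuadraticMap.weightedSumSquares_apply, smul_eq_mul,
    Pi.add_apply, ← Finset.sum_sub_distrib]
  rw [Fintype.sum_eq_single z (fun y hy => by simp [Pi.single_apply, hy])]
  simp
  ring

theorem polar_diffVec (c : Fin r → F) (a : Fin 2) (j k : Fin m) (x : Idx m r → F) :
    QuadraticMap.polar (⇑(modelQ m c)) (diffVec r a j k) x =
      2 * (x (Sum.inl (a, j)) - x (Sum.inl (a, k))) := by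
  rw [diffVec, sub_eq_add_neg, QuadraticMap.polar_add_left, QuadraticMap.polar_neg_left, polar_single,
    polar_single]
  simp
  ring

theorem modelQ_diffVec (h2 : (2 : F) ≠ 0) (c : Fin r → F) (a : Fin 2) {j k : Fin m} (h : j ≠ k) :
    modelQ m c (diffVec r a j k) = 2 := by
  have e := polar_self' (modelQ m c) (diffVec r a j k)
  rw [polar_diffVec] at e
  refine (mul_left_cancel₀ h2 (e.symm.trans ?_))
  rw [show diffVec r a j k (Sum.inl (a, j)) = (1 : F) by simp [diffVec, h],
    show diffVec r a j k (Sum.inl (a, k)) = (-1 : F) by simp [diffVec, h.symm]]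
  ring

theorem bigHom_swap (h2 : (2 : F) ≠ 0) (c : Fin r → F) {j k : Fin m} (h : j ≠ k) :
    bigHom c (SemidirectProduct.inr ⟨Equiv.swap j k, Subgroup.mem_top _⟩, 1) =
      reflIso (modelQ m c) (diffVec r 0 j k) (by rw [modelQ_diffVec h2 c 0 h]; exact h2) *
        reflIso (modelQ m c) (diffVec r 1 j k) (by rw [modelQ_diffVec h2 c 1 h]; exact h2) := by
  refine mat_ext _ (Matrix.ext_iff_mulVec.2 fun x => ?_)
  rw [mat_bigHom_mulVec, mat_mul, ← Matrix.mulVec_mulVec, mat_reflIso, mat_reflIso,
    reflectionMatrix_mulVec, reflectionMatrix_mulVec, Spinor.refl_apply, Spinor.refl_apply, modelQ_diffVec h2 c 0 h,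
    modelQ_diffVec h2 c 1 h, polar_diffVec, polar_diffVec, ← mul_assoc, ← mul_assoc, inv_mul_cancel₀ h2,
    one_mul, one_mul]
  funext y
  rcases y with ⟨a, i⟩ | j'
  · rw [blockLin_inl]
    fin_cases a <;>
      rcases eq_or_ne i j with rfl | hij <;> rcases eq_or_ne i k with rfl | hik <;>
      first
        | exact absurd rfl h
        | simp [diffVec, Pi.single_apply, Equiv.swap_apply_of_ne_of_ne, *]
  · simp [blockLin_inr, diffVec]

theorem bigHom_sign (h2 : (2 : F) ≠ 0) (c : Fin r → F) (j : Fin r) (hc : c j ≠ 0) :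
    bigHom c (1, Pi.mulSingle j (-1)) =
      reflIso (modelQ m c) (Pi.single (Sum.inr j) 1) (by simpa [modelQ_apply, Pi.single_apply] using hc) := by
  refine mat_ext _ (Matrix.ext_iff_mulVec.2 fun x => ?_)
  rw [mat_bigHom_mulVec, mat_reflIso, reflectionMatrix_mulVec, Spinor.refl_apply, polar_single,
    show modelQ m c (Pi.single (Sum.inr j) 1) = c j by simp [modelQ_apply, Pi.single_apply]]
  funext y
  rcases y with ⟨a, i⟩ | k
  · simp [blockLin_inl]
  · rw [blockLin_inr]
    rcases eq_or_ne k j with rfl | hk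
    · simp
      field_simp
      ring
    · simp [hk]

/-- Orthogonal `2 × 2` matrices of determinant `-1` are involutions. -/
theorem plane_sq (h2 : (2 : F) ≠ 0) (g : ↥(Cfsg.isometryGroup F ⇑(planeQ F)))
    (hd : (mat (planeQ F) g).det = -1) : g * g = 1 := by
  have q0 := quad_mulVec (planeQ F) g (Pi.single 0 1)
  have q1 := quad_mulVec (planeQ F) g (Pi.single 1 1)
  have q2 := quad_mulVec (planeQ F) g (fun _ => 1)
  refine mat_ext _ ?_
  rw [mat_mul, mat_one]
  set M := mat (planeQ F) g
  simp [Matrix.mulVec, dotProduct, Fin.sum_univ_two] at q0 q1 q2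
  rw [Matrix.det_fin_two] at hd
  have e : M 0 0 * M 0 1 + M 1 0 * M 1 1 = 0 :=
    mul_left_cancel₀ h2 (by linear_combination q2 - q0 - q1)
  have a : M 0 0 + M 1 1 = 0 := by
    linear_combination M 0 0 * hd - M 1 1 * q0 + M 1 0 * e
  have b : M 0 1 = M 1 0 := by
    linear_combination M 0 1 * hd + M 1 0 * q1 - M 1 1 * e
  ext i k
  fin_cases i <;> fin_cases k <;> simp [Matrix.mul_apply, Fin.sum_univ_two]
  · linear_combination q0 + M 1 0 * b
  · linear_combination M 0 1 * a
  · linear_combination M 1 0 * a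
  · linear_combination q1 - M 0 1 * b

variable [Fintype F]

/-- **Sylow `2`-subgroups of `Ω`.** -/
theorem sqComm_omega_model (h2 : (2 : F) ≠ 0) (hm : 2 ≤ m) (c : Fin r → F) (hc : ∀ j, c j ≠ 0)
    (hv : (Nat.card ↥(Cfsg.isometryGroup F ⇑(modelQ m c))).factorization 2 =
      m * (Nat.card ↥(Cfsg.isometryGroup F ⇑(planeQ F))).factorization 2 +
        padicValNat 2 m.factorial + r)
    (P : Sylow 2 (Cfsg.Omega F ⇑(modelQ m c))) :
    SqComm ↥(P : Subgroup (Cfsg.Omega F ⇑(modelQ m c))) := by
  classical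
  haveI : Fact (Nat.Prime 2) := ⟨Nat.prime_two⟩
  have hw : ∀ i, Sum.elim (fun _ : Fin 2 × Fin m => (1 : F)) c i ≠ 0 := by
    rintro (i | j)
    · exact one_ne_zero
    · exact hc j
  have nd : (QuadraticMap.polarBilin (modelQ m c)).Nondegenerate := diag_nondegenerate h2 hw
  have nd2 : (QuadraticMap.polarBilin (planeQ F)).Nondegenerate :=
    diag_nondegenerate h2 fun _ => one_ne_zero
  have hgen := exists_isReflProd (Q := modelQ m c) h2 nd
  have hgen2 := exists_isReflProd (Q := planeQ F) h2 nd2
  let χ := (parityHom nd hgen).prod (spinHom nd hgen)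
  let χ2 := (parityHom nd2 hgen2).prod (spinHom nd2 hgen2)
  have hrefl : ∀ (u : Idx m r → F) (hu : modelQ m c u ≠ 0) (v : Fin 2 → F) (hv : planeQ F v ≠ 0),
      modelQ m c u = planeQ F v → χ (reflIso _ u hu) = χ2 (reflIso _ v hv) := fun u hu v hv e => by
    refine Prod.ext ?_ (Units.ext ?_)
    · show parityHom nd hgen _ = parityHom nd2 hgen2 _
      rw [parityHom_reflIso, parityHom_reflIso]
    · show (spinHom nd hgen _ : ℤ) = spinHom nd2 hgen2 _
      rw [spinHom_reflIso, spinHom_reflIso, e]
  have hχs : ∀ i, χ.comp ((bigHom c).comp ((MonoidHom.inl _ _).comp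
      ((SemidirectProduct.inl).comp (MonoidHom.mulSingle (fun _ : Fin m =>
        ↥(Cfsg.isometryGroup F ⇑(planeQ F))) i)))) = χ2 := fun i => by
    refine MonoidHom.eq_of_eqOn_dense (closure_reflections_eq_top hgen2) ?_
    rintro g ⟨v, hv, e⟩
    obtain rfl : g = reflIso _ v hv := mat_ext _ e
    show χ (bigHom c (SemidirectProduct.inl (Pi.mulSingle i _), 1)) = _
    rw [bigHom_single_reflIso]
    exact hrefl _ _ _ _ (modelQ_planeVec c i v)
  have hχp : ∀ t : Perm (Fin m),
      χ (bigHom c (SemidirectProduct.inr ⟨t, Subgroup.mem_top _⟩, 1)) = 1 := by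
    intro t
    induction t using Equiv.Perm.swap_induction_on with
    | one => exact map_one (χ.comp ((bigHom c).comp ((MonoidHom.inl _ _).comp SemidirectProduct.inr)))
    | swap_mul t j k hjk ih =>
      rw [show ((SemidirectProduct.inr ⟨Equiv.swap j k * t, Subgroup.mem_top _⟩, 1) :
          Model (Cfsg.isometryGroup F ⇑(planeQ F)) (⊤ : Subgroup (Perm (Fin m))) r) =
        (SemidirectProduct.inr ⟨Equiv.swap j k, Subgroup.mem_top _⟩, 1) *
          (SemidirectProduct.inr ⟨t, Subgroup.mem_top _⟩, 1) by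
        simp [← map_mul], map_mul, map_mul, ih, mul_one, bigHom_swap h2 c hjk, map_mul]
      refine Prod.ext ?_ (Units.ext ?_)
      · show parityHom nd hgen _ * parityHom nd hgen _ = 1
        rw [parityHom_reflIso, parityHom_reflIso]
        rfl
      · show ((spinHom nd hgen _ * spinHom nd hgen _ : ℤˣ) : ℤ) = 1
        rw [Units.val_mul, spinHom_reflIso, spinHom_reflIso, modelQ_diffVec h2 c 0 hjk,
          modelQ_diffVec h2 c 1 hjk, ← pow_two, quadraticChar_sq_one h2]
  obtain ⟨S⟩ : Nonempty (Sylow 2 ↥(Cfsg.isometryGroup F ⇑(planeQ F))) := Sylow.nonempty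
  obtain ⟨T, hTc, hTg⟩ := exists_perm_sylow m
  let D := (S : Subgroup ↥(Cfsg.isometryGroup F ⇑(planeQ F))).map (Subgroup.subtype _)
  have hD : D ≤ Cfsg.isometryGroup F ⇑(planeQ F) := Subgroup.map_subtype_le _
  let incl : Model D T r →* Model (Cfsg.isometryGroup F ⇑(planeQ F)) (⊤ : Subgroup (Perm (Fin m))) r :=
    MonoidHom.prodMap (SemidirectProduct.map ((Subgroup.inclusion hD).compLeft (Fin m))
      (Subgroup.inclusion le_top) fun t => rfl) (MonoidHom.id _)
  have hincl : Function.Injective incl := fun a b h => by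
    have h1 := congrArg (fun z => z.1.left) h
    have h2 := congrArg (fun z => z.1.right) h
    have h3 := congrArg Prod.snd h
    refine Prod.ext (SemidirectProduct.ext (funext fun i => ?_) ?_) h3
    · exact Subgroup.inclusion_injective hD (congrFun h1 i)
    · exact Subgroup.inclusion_injective le_top h2
  have hbig : Function.Injective (bigHom (m := m) c) := fun a b h =>
    blockHom_injective h2 (congrArg Subtype.val h)
  let f := (bigHom c).comp incl
  have hker : (Cfsg.Omega F ⇑(modelQ m c)).comap f = (χ.comp f).ker := by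
    rw [omega_eq_ker nd hgen h2, ← MonoidHom.comap_ker]
  refine sqComm_sylow_normal f (hbig.comp hincl) ?_ _ ?_ P
  · rw [card_model, hTc, show Nat.card D = 2 ^ (Nat.card ↥(Cfsg.isometryGroup F ⇑(planeQ F))).factorization 2
        from (Subgroup.card_map_of_injective (Subgroup.subtype_injective _)).trans S.card_eq_multiplicity,
      hv, ← pow_mul, ← pow_add, ← pow_add]
    ring_nf
  rw [hker]
  refine ker_le_good (χ.comp f) (χ2.comp (Subgroup.inclusion hD)) hTg hm ?_ ?_ ?_ ?_ ?_
  · have h4 := parity_spin_surjective nd2 hgen2 h2 (by simp)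
    have : ((S : Subgroup ↥(Cfsg.isometryGroup F ⇑(planeQ F))).map χ2) = ⊤ := by
      rw [← Subgroup.index_eq_one]
      have hdvd : ((S : Subgroup _).map χ2).index ∣ 4 := by
        have := Subgroup.index_dvd_card ((S : Subgroup _).map χ2)
        rwa [Nat.card_prod, Nat.card_eq_fintype_card, Fintype.card_units_int] at this
      have hodd : Nat.Coprime ((S : Subgroup _).map χ2).index 2 :=
        (Nat.Prime.coprime_iff_not_dvd Nat.prime_two).2
          (fun h => S.not_dvd_index (h.trans (Subgroup.index_map_dvd _ h4))) |>.symm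
      exact (hodd.pow_right 2).eq_one_of_dvd hdvd
    intro y
    obtain ⟨x, hx, rfl⟩ := (SetLike.ext_iff.1 this y).2 trivial
    exact ⟨⟨x.1, ⟨x, hx, rfl⟩⟩, rfl⟩
  · intro d hd
    obtain ⟨vs, hvs⟩ := hgen2 (Subgroup.inclusion hD d)
    have h1 : parityHom nd2 hgen2 (Subgroup.inclusion hD d) = -1 := hd
    rw [parityHom_eq nd2 hgen2 hvs] at h1
    have hodd : Odd vs.length := by
      by_contra h
      rw [Nat.not_odd_iff_even] at h
      rw [h.neg_one_pow] at h1
      exact absurd h1 (by decide)
    refine Subgroup.inclusion_injective hD ?_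
    rw [map_mul, map_one]
    exact plane_sq h2 _ (by rw [det_isReflProd hvs, hodd.neg_one_pow])
  · intro i d
    show χ (bigHom c (incl (SemidirectProduct.inl (Pi.mulSingle i d), 1))) = _
    rw [show incl (SemidirectProduct.inl (Pi.mulSingle i d), 1) =
        ((SemidirectProduct.inl (Pi.mulSingle i (Subgroup.inclusion hD d)), 1) :
          Model (Cfsg.isometryGroup F ⇑(planeQ F)) (⊤ : Subgroup (Perm (Fin m))) r) from
      Prod.ext (SemidirectProduct.ext (funext fun k => by
        show Subgroup.inclusion hD ((Pi.mulSingle i d : Fin m → ↥D) k) =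
          (Pi.mulSingle i (Subgroup.inclusion hD d) : Fin m → ↥(Cfsg.isometryGroup F ⇑(planeQ F))) k
        rcases eq_or_ne k i with rfl | hk <;> simp [*]) rfl) rfl]
    exact DFunLike.congr_fun (hχs i) (Subgroup.inclusion hD d)
  · intro t
    exact hχp t.1
  · intro j
    show parityHom nd hgen (bigHom c (incl (1, Pi.mulSingle j (-1)))) = -1
    rw [show incl (1, Pi.mulSingle j (-1)) = (1, Pi.mulSingle j (-1)) from
        Prod.ext (SemidirectProduct.ext rfl rfl) rfl,
      bigHom_sign h2 c j (hc j), parityHom_reflIso]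

/-- The criterion for an arbitrary nondegenerate form. -/
theorem sqComm_omega {κ : Type} [Fintype κ] [DecidableEq κ] {R : QuadraticForm F (κ → F)}
    (h2 : (2 : F) ≠ 0) (hR : (QuadraticMap.polarBilin R).Nondegenerate) (hm : 2 ≤ m) (c : Fin r → F)
    (hc : ∀ j, c j ≠ 0) (hκ : Fintype.card κ = 2 * m + r)
    (hd : IsSquare ((FormDiscr.gram R).det * (2 ^ (2 * m + r) * ∏ j, c j)))
    (hv : (Nat.card ↥(Cfsg.isometryGroup F ⇑R)).factorization 2 =
      m * (Nat.card ↥(Cfsg.isometryGroup F ⇑(planeQ F))).factorization 2 +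
        padicValNat 2 m.factorial + r)
    (P : Sylow 2 (Cfsg.Omega F ⇑R)) :
    SqComm ↥(P : Subgroup (Cfsg.Omega F ⇑R)) := by
  classical
  haveI : Fact (Nat.Prime 2) := ⟨Nat.prime_two⟩
  have hw : ∀ i, Sum.elim (fun _ : Fin 2 × Fin m => (1 : F)) c i ≠ 0 := by
    rintro (i | j)
    · exact one_ne_zero
    · exact hc j
  have hcard : Fintype.card (Idx m r) = Fintype.card κ := by simp [hκ]
  obtain ⟨L, hL⟩ := exists_equiv_of_disc (Q := modelQ m c) (R := R) h2 (diag_nondegenerate h2 hw) hR hcard
    (by rw [FormDiscr.gram_det_diag, hcard, hκ, Fintype.prod_sum_type]; simpa [mul_comm] using hd)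
  obtain ⟨e⟩ := nonempty_omega_equiv L hL
  obtain ⟨P'⟩ : Nonempty (Sylow 2 (Cfsg.Omega F ⇑(modelQ m c))) := Sylow.nonempty
  rw [← card_isometry_eq L hL] at hv
  exact sqComm_sylow (e.toMonoidHom.comp (P' : Subgroup _).subtype)
    (e.injective.comp Subtype.val_injective) (sqComm_omega_model h2 hm c hc hv P')
    (by rw [P'.card_eq_multiplicity, Nat.card_congr e.toEquiv]) P

end model

end CfsgLib.SylowTwoAb
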